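import Cfsg.Agent.Lib.McLRec.Graph
import Cfsg.Agent.Lib.McLRec.BoundData

/-!
# The automorphisms of the graph fixing the base point are few
-/

set_option autoImplicit false
set_option maxRecDepth 100000

namespace CfsgLib.McLRec

open CfsgLib.LeechPSU

/-- The label of a point. -/
noncomputable def lab (L : List ℕ) (u : ℕ) : ℕ := fastGet L 0 u

/-- The points with the label of a given one. -/
noncomputable def members (L : List ℕ) (v : ℕ) : List ℕ :=
  (List.range 275).filter fun x => Nat.beq (lab L x) (lab L v)

/-- A step of refinement gives the stated labels. -/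
noncomputable def stepLabB (prev : List ℕ) (s : Bool × ℕ × List ℕ) : Bool :=
  decide (s.2.1 < 275) && decide (s.2.2.length = 275) &&
    match s.1 with
    | true => (List.range 275).all fun u => Nat.beq (lab s.2.2 u)
        (4 * lab prev u + 2 * (Nat.beq u s.2.1).toNat + (adjB s.2.1 u).toNat)
    | false => (List.range 275).all fun u => Nat.beq (lab s.2.2 u)
        (300 * lab prev u + (members prev s.2.1).countP (fun x => adjB u x))

/-- All steps are right and the last labels differ. -/
noncomputable def stepsB : List (Bool × ℕ × List ℕ) → List ℕ → Bool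
  | [], L => (List.range 275).all fun i => (List.range i).all fun j => !Nat.beq (lab L i) (lab L j)
  | s :: rest, L => stepLabB L s && stepsB rest s.2.2

/-- The product of the class sizes at the base points. -/
noncomputable def labProd : List (Bool × ℕ × List ℕ) → List ℕ → ℕ
  | [], _ => 1
  | s :: rest, L => (if s.1 then (members L s.2.1).length else 1) * labProd rest s.2.2

theorem steps_ok : stepsB labelSteps labels0 = true := by decide +kernel

theorem labProd_ok : labProd labelSteps labels0 = 4 * 3265920 := by decide +kernel

/-- The initial labels. -/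
noncomputable def initB : Bool :=
  (List.range 275).all fun u => Nat.beq (lab labels0 u)
    (if u = 0 then 0 else if u < 113 then 1 else 2)

theorem init_ok : initB = true := by decide +kernel

/-- A permutation keeps the labels. -/
def Keeps (L : List ℕ) (σ : Equiv.Perm (Fin 275)) : Prop := ∀ u : Fin 275, lab L (σ u).val = lab L u.val

theorem members_finset (L : List ℕ) (v : ℕ) :
    (members L v).length = (Finset.univ.filter fun u : Fin 275 => lab L u.val = lab L v).card := by
  rw [members, ← List.toFinset_card_of_nodup (List.nodup_range.filter _)]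
  refine (Finset.card_nbij (fun u : Fin 275 => u.val) (fun u hu => ?_) (fun a _ b _ e => Fin.ext e)
    (fun x hx => ?_)).symm
  · simp only [Finset.coe_filter, Finset.mem_univ, true_and, Set.mem_setOf_eq] at hu
    simp only [List.coe_toFinset, Set.mem_setOf_eq, List.mem_filter, List.mem_range, Nat.beq_eq]
    exact ⟨u.isLt, hu⟩
  · simp only [List.coe_toFinset, Set.mem_setOf_eq, List.mem_filter, List.mem_range, Nat.beq_eq] at hx
    exact ⟨⟨x, hx.1⟩, by simpa using hx.2, rfl⟩

theorem count_eq (L : List ℕ) (v : ℕ) (u : Fin 275) :
    (members L v).countP (fun x => adjB u.val x) =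
      (Finset.univ.filter fun x : Fin 275 => lab L x.val = lab L v ∧ Adj u x).card := by
  rw [List.countP_eq_length_filter, members, List.filter_filter,
    ← List.toFinset_card_of_nodup (List.nodup_range.filter _)]
  refine (Finset.card_nbij (fun x : Fin 275 => x.val) (fun x hx => ?_) (fun a _ b _ e => Fin.ext e)
    (fun x hx => ?_)).symm
  · simp only [Finset.coe_filter, Finset.mem_univ, true_and, Set.mem_setOf_eq] at hx
    simp only [List.coe_toFinset, Set.mem_setOf_eq, List.mem_filter, List.mem_range, Bool.and_eq_true, Nat.beq_eq]
    exact ⟨x.isLt, hx.2, hx.1⟩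
  · simp only [List.coe_toFinset, Set.mem_setOf_eq, List.mem_filter, List.mem_range, Bool.and_eq_true,
      Nat.beq_eq] at hx
    refine ⟨⟨x, hx.1⟩, ?_, rfl⟩
    simp only [Finset.coe_filter, Finset.mem_univ, true_and, Set.mem_setOf_eq]
    exact ⟨hx.2.2, hx.2.1⟩

theorem card_le_labProd : ∀ (steps : List (Bool × ℕ × List ℕ)) (L : List ℕ), stepsB steps L = true →
    ∀ S : Subgroup (Equiv.Perm (Fin 275)), S ≤ autG → (∀ σ ∈ S, Keeps L σ) →
      Nat.card S ≤ labProd steps L := by
  intro steps
  induction steps with
  | nil =>
    intro L h S _ hk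
    simp only [stepsB, List.all_eq_true, List.mem_range, Bool.not_eq_true'] at h
    have hS : S = ⊥ := by
      refine eq_bot_iff.2 fun σ hσ => Subgroup.mem_bot.2 (Equiv.ext fun u => ?_)
      by_contra hne
      have e := hk σ hσ u
      rcases lt_trichotomy (σ u).val u.val with hl | hl | hl
      · have := h u.val u.isLt (σ u).val hl
        rw [e] at this
        simp at this
      · exact hne (Fin.ext hl)
      · have := h (σ u).val (σ u).isLt u.val hl
        rw [e] at this
        simp at this
    rw [hS, Subgroup.card_bot]
    exact le_rfl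
  | cons s rest ih =>
    intro L h S hS hk
    obtain ⟨b, v, L'⟩ := s
    simp only [stepsB, Bool.and_eq_true] at h
    obtain ⟨hstep, hrest⟩ := h
    simp only [stepLabB, Bool.and_eq_true, decide_eq_true_eq] at hstep
    obtain ⟨⟨hv, -⟩, hstep⟩ := hstep
    cases b with
    | true =>
      simp only [List.all_eq_true, List.mem_range, Nat.beq_eq] at hstep
      simp only [labProd, if_true]
      set T := MulAction.stabilizer S (⟨v, hv⟩ : Fin 275) with hT
      have hsub : (MulAction.orbit S (⟨v, hv⟩ : Fin 275)).ncard ≤ (members L v).length := by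
        rw [members_finset, ← Set.ncard_coe_finset]
        refine Set.ncard_le_ncard ?_ (Set.toFinite _)
        rintro _ ⟨σ, rfl⟩
        simp only [Finset.coe_filter, Finset.mem_univ, true_and, Set.mem_setOf_eq]
        exact hk σ.1 σ.2 _
      have hT' : Nat.card T ≤ labProd rest L' := by
        refine ((Nat.card_congr (T.equivMapOfInjective S.subtype S.subtype_injective).toEquiv).trans_le ?_)
        refine ih L' hrest _ ((Subgroup.map_subtype_le _).trans hS) ?_
        rintro _ ⟨σ, hσ, rfl⟩ u
        have hfix : (σ : Equiv.Perm (Fin 275)) ⟨v, hv⟩ = ⟨v, hv⟩ := hσ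
        show lab L' ((σ : Equiv.Perm (Fin 275)) u).val = lab L' u.val
        rw [hstep _ ((σ : Equiv.Perm (Fin 275)) u).isLt, hstep _ u.isLt, hk _ σ.2 u]
        have h1 : Nat.beq ((σ : Equiv.Perm (Fin 275)) u).val v = Nat.beq u.val v := by
          rw [Bool.eq_iff_iff, Nat.beq_eq, Nat.beq_eq]
          constructor
          · intro e
            have : (σ : Equiv.Perm (Fin 275)) u = (σ : Equiv.Perm (Fin 275)) ⟨v, hv⟩ := by
              rw [hfix]; exact Fin.ext e
            rw [(σ : Equiv.Perm (Fin 275)).injective this]
          · intro e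
            rw [show u = ⟨v, hv⟩ from Fin.ext e, hfix]
        have h2 : adjB v ((σ : Equiv.Perm (Fin 275)) u).val = adjB v u.val := by
          rw [Bool.eq_iff_iff]
          have := mem_autG (hS σ.2) ⟨v, hv⟩ u
          rw [hfix] at this
          exact this
        rw [h1, h2]
      have hc := T.index_mul_card
      rw [hT, MulAction.index_stabilizer] at hc
      rw [← hc]
      exact Nat.mul_le_mul hsub hT'
    | false =>
      simp only [List.all_eq_true, List.mem_range, Nat.beq_eq] at hstep
      simp only [labProd, Bool.false_eq_true, if_false, one_mul]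
      refine ih L' hrest S hS fun σ hσ u => ?_
      rw [hstep _ (σ u).isLt, hstep _ u.isLt, hk σ hσ u, count_eq, count_eq]
      congr 1
      refine (Finset.card_bij (fun x _ => σ x) (fun x hx => ?_) (fun a _ b _ e => σ.injective e)
        (fun y hy => ?_)).symm
      · simp only [Finset.mem_filter, Finset.mem_univ, true_and] at hx ⊢
        exact ⟨(hk σ hσ x).trans hx.1, (mem_autG (hS hσ) u x).2 hx.2⟩
      · obtain ⟨x, rfl⟩ := σ.surjective y
        simp only [Finset.mem_filter, Finset.mem_univ, true_and] at hy
        refine ⟨x, ?_, rfl⟩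
        simp only [Finset.mem_filter, Finset.mem_univ, true_and]
        exact ⟨(hk σ hσ x).symm.trans hy.1, (mem_autG (hS hσ) u x).1 hy.2⟩

/-- The stabiliser of the base point in the automorphism group. -/
def autZero : Subgroup (Equiv.Perm (Fin 275)) :=
  autG ⊓ MulAction.stabilizer (Equiv.Perm (Fin 275)) (0 : Fin 275)

theorem card_autZero_le : Nat.card autZero ≤ 4 * 3265920 := by
  rw [← labProd_ok]
  refine card_le_labProd _ _ steps_ok _ inf_le_left fun σ hσ u => ?_
  have h := init_ok
  simp only [initB, List.all_eq_true, List.mem_range, Nat.beq_eq] at h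
  rw [h _ (σ u).isLt, h _ u.isLt]
  obtain ⟨hq, ho⟩ := aut_fix_zero hσ.1 hσ.2 u
  unfold QPt at hq
  unfold OPt at ho
  split_ifs <;> omega

end CfsgLib.McLRec
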