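import Cfsg.Agent.Lib.McLRec.Data
import Cfsg.Agent.Lib.LeechPSU.Perm
import Cfsg.Agent.Lib.McLRec.SearchData

/-!
# The sets meeting each of the 280 cliques in two points
-/

set_option autoImplicit false
set_option maxRecDepth 20000

namespace CfsgLib.McLRec

open CfsgLib.LeechPSU (fastGet fastGet_eq)

/-- The number of points of a clique in a mask. -/
noncomputable def cnt (m : ℕ) (q : ℕ × ℕ × ℕ × ℕ) : ℕ :=
  (m.testBit q.1).toNat + (m.testBit q.2.1).toNat + (m.testBit q.2.2.1).toNat + (m.testBit q.2.2.2).toNat

/-- Add a point to a mask unless another mask has it. -/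
noncomputable def addTo (i o x : ℕ) : ℕ := if i.testBit x then o else o ||| 2 ^ x

/-- Add the rest of a clique. -/
noncomputable def addRest (i o : ℕ) (q : ℕ × ℕ × ℕ × ℕ) : ℕ :=
  addTo i (addTo i (addTo i (addTo i o q.1) q.2.1) q.2.2.1) q.2.2.2

/-- A leaf is one of the listed sets. -/
noncomputable def leafOk (k i o : ℕ) : Bool :=
  decide (k < hemTab.length) &&
    (List.range 112).all fun x => ((i ||| o).testBit (x + 1)) &&
      (i.testBit (x + 1) == (fastGet hemTab 0 k).testBit (x + 1))

/-- Follow the certificate. -/
noncomputable def run : ℕ → List ℕ → ℕ → ℕ → Option (List ℕ)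
  | 0, _, _, _ => none
  | fuel + 1, [], _, _ => none
  | fuel + 1, t :: ts, i, o =>
    if t % 4 = 0 then
      if t / 4 < cliques.length ∧
          (3 ≤ cnt i (fastGet cliques (0, 0, 0, 0) (t / 4)) ∨ 3 ≤ cnt o (fastGet cliques (0, 0, 0, 0) (t / 4)))
      then some ts else none
    else if t % 4 = 1 then
      if t / 4 < cliques.length then
        if cnt i (fastGet cliques (0, 0, 0, 0) (t / 4)) = 2 then
          run fuel ts i (addRest i o (fastGet cliques (0, 0, 0, 0) (t / 4)))
        else if cnt o (fastGet cliques (0, 0, 0, 0) (t / 4)) = 2 then
          run fuel ts (addRest o i (fastGet cliques (0, 0, 0, 0) (t / 4))) o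
        else none
      else none
    else if t % 4 = 2 then
      match run fuel ts (i ||| 2 ^ (t / 4)) o with
      | none => none
      | some ts' => run fuel ts' i (o ||| 2 ^ (t / 4))
    else if leafOk (t / 4) i o then some ts else none

/-- The outcome of the search. -/
noncomputable def searchB : Bool :=
  match run 2000 searchToks 2 0 with
  | some [] => true
  | _ => false

theorem search_ok : searchB = true := by decide +kernel

variable {S : ℕ → Bool}

/-- The number of points of a clique in a set. -/
def cntS (S : ℕ → Bool) (q : ℕ × ℕ × ℕ × ℕ) : ℕ :=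
  (S q.1).toNat + (S q.2.1).toNat + (S q.2.2.1).toNat + (S q.2.2.2).toNat

theorem le_cntS {i : ℕ} (hi : ∀ x, i.testBit x = true → S x = true) (q : ℕ × ℕ × ℕ × ℕ) :
    cnt i q ≤ cntS S q := by
  have h : ∀ x, (i.testBit x).toNat ≤ (S x).toNat := fun x => by
    cases hx : i.testBit x
    · exact Nat.zero_le _
    · rw [hi x hx]
  unfold cnt cntS
  have := h q.1; have := h q.2.1; have := h q.2.2.1; have := h q.2.2.2
  omega

theorem cntS_le {o : ℕ} (ho : ∀ x, o.testBit x = true → S x = false) (q : ℕ × ℕ × ℕ × ℕ) :
    cnt o q + cntS S q ≤ 4 := by
  have h : ∀ x, (o.testBit x).toNat + (S x).toNat ≤ 1 := fun x => by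
    cases hx : o.testBit x
    · cases S x <;> simp
    · rw [ho x hx]; simp
  unfold cnt cntS
  have := h q.1; have := h q.2.1; have := h q.2.2.1; have := h q.2.2.2
  omega

theorem addTo_false {i o x : ℕ} (ho : ∀ y, o.testBit y = true → S y = false)
    (hx : i.testBit x = false → S x = false) (y : ℕ) (hy : (addTo i o x).testBit y = true) : S y = false := by
  unfold addTo at hy
  split at hy
  · exact ho y hy
  · rename_i h
    rw [Nat.testBit_or, Bool.or_eq_true] at hy
    rcases hy with hy | hy
    · exact ho y hy
    · rw [Nat.testBit_two_pow, decide_eq_true_eq] at hy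
      exact hy ▸ hx (by simpa using h)

theorem addTo_true {i o x : ℕ} (ho : ∀ y, o.testBit y = true → S y = true)
    (hx : i.testBit x = false → S x = true) (y : ℕ) (hy : (addTo i o x).testBit y = true) : S y = true := by
  unfold addTo at hy
  split at hy
  · exact ho y hy
  · rename_i h
    rw [Nat.testBit_or, Bool.or_eq_true] at hy
    rcases hy with hy | hy
    · exact ho y hy
    · rw [Nat.testBit_two_pow, decide_eq_true_eq] at hy
      exact hy ▸ hx (by simpa using h)

theorem force_out {i o : ℕ} {q : ℕ × ℕ × ℕ × ℕ} (hi : ∀ x, i.testBit x = true → S x = true)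
    (ho : ∀ x, o.testBit x = true → S x = false) (hc : cnt i q = 2) (hq : cntS S q = 2) :
    ∀ x, (addRest i o q).testBit x = true → S x = false := by
  have h : ∀ x, (i.testBit x).toNat ≤ (S x).toNat := fun x => by
    cases hx : i.testBit x
    · exact Nat.zero_le _
    · rw [hi x hx]
  have key : ∀ x, x = q.1 ∨ x = q.2.1 ∨ x = q.2.2.1 ∨ x = q.2.2.2 → i.testBit x = false → S x = false := by
    intro x hx hix
    cases hs : S x with
    | false => rfl
    | true =>
      exfalso
      have h0 : (i.testBit x).toNat + 1 ≤ (S x).toNat := by rw [hix, hs]; simp
      have := h q.1; have := h q.2.1; have := h q.2.2.1; have := h q.2.2.2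
      unfold cnt at hc; unfold cntS at hq
      rcases hx with rfl | rfl | rfl | rfl <;> omega
  exact addTo_false (addTo_false (addTo_false (addTo_false ho (key _ (Or.inl rfl)))
    (key _ (Or.inr (Or.inl rfl)))) (key _ (Or.inr (Or.inr (Or.inl rfl))))) (key _ (Or.inr (Or.inr (Or.inr rfl))))

theorem force_in {i o : ℕ} {q : ℕ × ℕ × ℕ × ℕ} (hi : ∀ x, i.testBit x = true → S x = true)
    (ho : ∀ x, o.testBit x = true → S x = false) (hc : cnt o q = 2) (hq : cntS S q = 2) :
    ∀ x, (addRest o i q).testBit x = true → S x = true := by
  have h : ∀ x, (o.testBit x).toNat + (S x).toNat ≤ 1 := fun x => by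
    cases hx : o.testBit x
    · cases S x <;> simp
    · rw [ho x hx]; simp
  have key : ∀ x, x = q.1 ∨ x = q.2.1 ∨ x = q.2.2.1 ∨ x = q.2.2.2 → o.testBit x = false → S x = true := by
    intro x hx hox
    cases hs : S x with
    | true => rfl
    | false =>
      exfalso
      have h0 : (o.testBit x).toNat + (S x).toNat = 0 := by rw [hox, hs]; simp
      have := h q.1; have := h q.2.1; have := h q.2.2.1; have := h q.2.2.2
      unfold cnt at hc; unfold cntS at hq
      rcases hx with rfl | rfl | rfl | rfl <;> omega
  exact addTo_true (addTo_true (addTo_true (addTo_true hi (key _ (Or.inl rfl)))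
    (key _ (Or.inr (Or.inl rfl)))) (key _ (Or.inr (Or.inr (Or.inl rfl))))) (key _ (Or.inr (Or.inr (Or.inr rfl))))

/-- The listed sets on the points of the graph. -/
def Listed (S : ℕ → Bool) : Prop :=
  ∃ k < hemTab.length, ∀ x, 1 ≤ x → x ≤ 112 → S x = (hemTab.getD k 0).testBit x

theorem run_sound (hS : ∀ q ∈ cliques, cntS S q = 2) :
    ∀ (fuel : ℕ) (ts : List ℕ) (i o : ℕ) (rest : List ℕ), run fuel ts i o = some rest →
      (∀ x, i.testBit x = true → S x = true) → (∀ x, o.testBit x = true → S x = false) → Listed S := by
  intro fuel
  induction fuel with
  | zero => intro ts i o rest h; simp [run] at h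
  | succ n ih =>
    intro ts i o rest h hi ho
    cases ts with
    | nil => simp [run] at h
    | cons t ts =>
      have hcl : t / 4 < cliques.length → fastGet cliques (0, 0, 0, 0) (t / 4) ∈ cliques := fun hk => by
        rw [fastGet_eq _ _ hk, List.getD_eq_getElem _ _ hk]; exact List.getElem_mem hk
      rw [run] at h
      split at h
      · split at h
        · rename_i hh
          have h2 := hS _ (hcl hh.1)
          have := le_cntS hi (fastGet cliques (0, 0, 0, 0) (t / 4))
          have := cntS_le ho (fastGet cliques (0, 0, 0, 0) (t / 4))
          omega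
        · simp at h
      · split at h
        · split at h
          · rename_i hk
            have h2 := hS _ (hcl hk)
            split at h
            · rename_i hc
              exact ih _ _ _ _ h hi (force_out hi ho hc h2)
            · split at h
              · rename_i hc
                exact ih _ _ _ _ h (force_in hi ho hc h2) ho
              · simp at h
          · simp at h
        · split at h
          · cases hb : S (t / 4) with
            | true =>
              split at h
              · simp at h
              · rename_i hr
                refine ih _ _ _ _ hr (fun x hx => ?_) ho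
                rw [Nat.testBit_or, Bool.or_eq_true] at hx
                rcases hx with hx | hx
                · exact hi x hx
                · rw [Nat.testBit_two_pow, decide_eq_true_eq] at hx
                  exact hx ▸ hb
            | false =>
              split at h
              · simp at h
              · refine ih _ _ _ _ h hi (fun x hx => ?_)
                rw [Nat.testBit_or, Bool.or_eq_true] at hx
                rcases hx with hx | hx
                · exact ho x hx
                · rw [Nat.testBit_two_pow, decide_eq_true_eq] at hx
                  exact hx ▸ hb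
          · split at h
            · rename_i hl
              simp only [leafOk, Bool.and_eq_true, decide_eq_true_eq, List.all_eq_true, List.mem_range,
                beq_iff_eq] at hl
              refine ⟨t / 4, hl.1, fun x h1 h112 => ?_⟩
              obtain ⟨hu, he⟩ := hl.2 (x - 1) (by omega)
              rw [show x - 1 + 1 = x by omega] at hu he
              rw [fastGet_eq _ _ hl.1] at he
              rw [← he]
              rw [Nat.testBit_or, Bool.or_eq_true] at hu
              rcases hu with hu | hu
              · rw [hi x hu, hu]
              · cases hx : i.testBit x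
                · exact ho x hu
                · have := hi x hx; rw [ho x hu] at this; simp at this
            · simp at h

/-- A set of points meeting every clique twice and containing the first is listed. -/
theorem exists_listed (hS : ∀ q ∈ cliques, cntS S q = 2) (h1 : S 1 = true) : Listed S := by
  have h := search_ok
  unfold searchB at h
  split at h
  · rename_i hr
    refine run_sound hS _ _ _ _ _ hr (fun x hx => ?_) (fun x hx => by simp at hx)
    rw [show (2 : ℕ) = 2 ^ 1 from rfl, Nat.testBit_two_pow, decide_eq_true_eq] at hx
    exact hx ▸ h1
  · simp at h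

end CfsgLib.McLRec
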