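import Cfsg.Agent.Lib.McLRec.Near
import Cfsg.Agent.Lib.McLRec.Search

/-!
# The orbit of length 162 and the isomorphism of graphs
-/

set_option autoImplicit false
set_option maxRecDepth 100000
set_option linter.unusedSectionVars false

open scoped Classical

namespace CfsgLib.McLRec

open CfsgLib.LeechPSU

local notation "KG" => permGroup 275 [code0, code1]

variable {Ω : Type*} [Fintype Ω] [DecidableEq Ω] {G : Subgroup (Equiv.Perm Ω)} {a b c : Ω}

/-- In the graph a point outside five mutually related points is related to two of them. -/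
theorem five_clique (h : RankThree G a b c) (hp : Params G a b c) (P : Finset Ω) (hP : P.card = 5)
    (hcl : ∀ u ∈ P, ∀ v ∈ P, u ≠ v → Rel G a b u v) (w : Ω) (hw : w ∉ P) :
    (P.filter fun u => Rel G a b u w).card = 2 := by
  let ind : Ω → Ω → ℤ := fun u x => if Rel G a b u x then 1 else 0
  let W : Finset Ω := Finset.univ \ P
  have hdiag : ∀ u ∈ P, ∑ x ∈ W, ind u x = 108 := by
    intro u hu
    have e : W.filter (fun x => Rel G a b u x) = nbrs G a b u \ (P.erase u) := by
      ext x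
      simp only [W, Finset.mem_filter, Finset.mem_sdiff, Finset.mem_univ, true_and, mem_nbrs, Finset.mem_erase]
      constructor
      · exact fun hx => ⟨hx.2, fun hx' => hx.1 hx'.2⟩
      · refine fun hx => ⟨fun hxP => hx.2 ⟨?_, hxP⟩, hx.1⟩
        rintro rfl
        exact rel_irrefl h x hx.1
    have hsub : P.erase u ⊆ nbrs G a b u := fun x hx =>
      mem_nbrs.2 (hcl u hu x (Finset.mem_erase.1 hx).2 (Finset.mem_erase.1 hx).1.symm)
    simp only [ind, Finset.sum_boole, e, Finset.card_sdiff_of_subset hsub, card_nbrs h,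
      Finset.card_erase_of_mem hu, hP]
    norm_num
  have hoff : ∀ u ∈ P, ∀ v ∈ P, u ≠ v → ∑ x ∈ W, ind u x * ind v x = 27 := by
    intro u hu v hv hne
    have e : W.filter (fun x => Rel G a b u x ∧ Rel G a b v x) =
        (nbrs G a b u ∩ nbrs G a b v) \ ((P.erase u).erase v) := by
      ext x
      simp only [W, Finset.mem_filter, Finset.mem_sdiff, Finset.mem_univ, true_and, mem_nbrs, Finset.mem_erase,
        Finset.mem_inter]
      constructor
      · exact fun hx => ⟨hx.2, fun hx' => hx.1 hx'.2.2⟩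
      · refine fun hx => ⟨fun hxP => hx.2 ⟨?_, ?_, hxP⟩, hx.1⟩
        · rintro rfl; exact rel_irrefl h x hx.1.2
        · rintro rfl; exact rel_irrefl h x hx.1.1
    have hsub : (P.erase u).erase v ⊆ nbrs G a b u ∩ nbrs G a b v := fun x hx => by
      simp only [Finset.mem_erase] at hx
      exact Finset.mem_inter.2 ⟨mem_nbrs.2 (hcl u hu x hx.2.2 hx.2.1.symm), mem_nbrs.2 (hcl v hv x hx.2.2 hx.1.symm)⟩
    have : ∀ x, ind u x * ind v x = if Rel G a b u x ∧ Rel G a b v x then 1 else 0 := fun x => by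
      simp only [ind]
      by_cases h1 : Rel G a b u x <;> by_cases h2 : Rel G a b v x <;> simp [h1, h2]
    simp only [this, Finset.sum_boole, e, Finset.card_sdiff_of_subset hsub, hp.common u v (hcl u hu v hv hne),
      Finset.card_erase_of_mem (Finset.mem_erase.2 ⟨hne.symm, hv⟩), Finset.card_erase_of_mem hu, hP]
    norm_num
  have hW : W.card = 270 := by
    rw [Finset.card_sdiff_of_subset (Finset.subset_univ _), Finset.card_univ, h.card_points, hP]
  have hone : ∑ x ∈ W, ∑ u ∈ P, ind u x = 540 := by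
    rw [Finset.sum_comm, Finset.sum_congr rfl hdiag, Finset.sum_const, hP]
    norm_num
  have htwo : ∑ x ∈ W, (∑ u ∈ P, ind u x) * (∑ v ∈ P, ind v x) = 1080 := by
    simp only [Finset.sum_mul_sum]
    rw [Finset.sum_comm]
    have hrow : ∀ u ∈ P, ∑ x ∈ W, ∑ v ∈ P, ind u x * ind v x = 216 := by
      intro u hu
      rw [Finset.sum_comm, ← Finset.add_sum_erase P _ hu]
      have hd : ∑ x ∈ W, ind u x * ind u x = 108 := by
        rw [← hdiag u hu]
        refine Finset.sum_congr rfl fun x _ => ?_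
        simp only [ind]; split <;> simp
      rw [hd, Finset.sum_congr rfl fun v hv =>
        hoff u hu v (Finset.mem_erase.1 hv).2 (Finset.mem_erase.1 hv).1.symm,
        Finset.sum_const, Finset.card_erase_of_mem hu, hP]
      norm_num
    rw [Finset.sum_congr rfl hrow, Finset.sum_const, hP]
    norm_num
  have hzero : ∑ x ∈ W, ((∑ u ∈ P, ind u x) - 2) ^ 2 = 0 := by
    have : ∀ x, ((∑ u ∈ P, ind u x) - 2) ^ 2 =
        (∑ u ∈ P, ind u x) * (∑ v ∈ P, ind v x) - 4 * (∑ u ∈ P, ind u x) + 4 := fun x => by ring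
    simp only [this, Finset.sum_add_distrib, Finset.sum_sub_distrib, ← Finset.mul_sum, hone, htwo,
      Finset.sum_const, hW]
    norm_num
  have := (Finset.sum_eq_zero_iff_of_nonneg fun x _ => sq_nonneg _).1 hzero w
    (Finset.mem_sdiff.2 ⟨Finset.mem_univ _, hw⟩)
  have h2 := pow_eq_zero_iff (two_ne_zero) |>.1 this
  have h3 : ((P.filter fun u => Rel G a b u w).card : ℤ) = ∑ u ∈ P, ind u w := by
    simp only [ind, Finset.sum_boole]
  omega

/-- A far point whose neighbours among the near points are those of a far point of the model. -/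
theorem exists_matched (h : RankThree G a b c) (hp : Params G a b c) (n : NearMap G a b) :
    ∃ n' : NearMap G a b, ∃ c₀ ∈ orbFin G a c, ∃ o : Fin 275, OPt o ∧
      ∀ y ∈ orbFin G a b, Rel G a b c₀ y ↔ Adj o (n'.ψ y) := by
  obtain ⟨y₁, hy₁, e₁⟩ := n.surj q1 (by unfold QPt q1; decide)
  -- a far point joined to the point sent to the first near point
  obtain ⟨c₀, hc₀, hrel⟩ : ∃ z ∈ orbFin G a c, Rel G a b z y₁ := by
    by_contra hno
    push Not at hno
    have h1 := card_nbrs_split h y₁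
    have h2 : nbrs G a b y₁ ∩ orbFin G a c = ∅ := Finset.eq_empty_of_forall_notMem fun z hz =>
      hno z (Finset.mem_inter.1 hz).2 ((rel_comm h _ _).1 (mem_nbrs.1 (Finset.mem_inter.1 hz).1))
    have h3 := hp.common a y₁ ((rel_base_iff _).2 hy₁)
    rw [nbrs_base, Finset.inter_comm] at h3
    have h4 : (nbrs G a b y₁ ∩ {a}).card ≤ 1 := le_trans (Finset.card_le_card Finset.inter_subset_right) (by simp)
    rw [h2, Finset.card_empty, h3] at h1
    omega
  let S : ℕ → Bool := fun x => decide (∃ y ∈ orbFin G a b, Rel G a b c₀ y ∧ (n.ψ y).val = x)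
  have hS : ∀ y ∈ orbFin G a b, (S (n.ψ y).val = true ↔ Rel G a b c₀ y) := by
    intro y hy
    simp only [S, decide_eq_true_eq]
    exact ⟨fun ⟨z, hz, hr, e⟩ => n.inj z hz y hy (Fin.ext e) ▸ hr, fun hr => ⟨y, hy, hr, rfl⟩⟩
  have hcl : ∀ q ∈ cliques, cntS S q = 2 := by
    intro q hq
    obtain ⟨u1, u2, u3, u4, v1, v2, v3, v4, p1, p2, p3, p4, a12, a13, a14, a23, a24, a34⟩ := clique_points hq
    obtain ⟨y1, m1, w1⟩ := n.surj u1 p1
    obtain ⟨y2, m2, w2⟩ := n.surj u2 p2
    obtain ⟨y3, m3, w3⟩ := n.surj u3 p3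
    obtain ⟨y4, m4, w4⟩ := n.surj u4 p4
    subst w1 w2 w3 w4
    have r12 := (n.adj y1 m1 y2 m2).2 a12
    have r13 := (n.adj y1 m1 y3 m3).2 a13
    have r14 := (n.adj y1 m1 y4 m4).2 a14
    have r23 := (n.adj y2 m2 y3 m3).2 a23
    have r24 := (n.adj y2 m2 y4 m4).2 a24
    have r34 := (n.adj y3 m3 y4 m4).2 a34
    have ra : ∀ y ∈ orbFin G a b, Rel G a b a y ∧ a ≠ y := fun y hy =>
      ⟨(rel_base_iff y).2 hy, fun e => (base_notMem h).1 (e ▸ hy)⟩
    have ne : ∀ {u v : Ω}, Rel G a b u v → u ≠ v := fun {u v} hr e => rel_irrefl h v (by rwa [e] at hr)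
    have n12 := ne r12; have n13 := ne r13; have n14 := ne r14
    have n23 := ne r23; have n24 := ne r24; have n34 := ne r34
    let P : Finset Ω := {a, y1, y2, y3, y4}
    have hPc : P.card = 5 := by
      simp [P, (ra _ m1).2, (ra _ m2).2, (ra _ m3).2, (ra _ m4).2, n12, n13, n14, n23, n24, n34]
    have hPcl : ∀ u ∈ P, ∀ v ∈ P, u ≠ v → Rel G a b u v := by
      intro u hu v hv hne
      have hs := fun {x y : Ω} (hr : Rel G a b x y) => (rel_comm h x y).1 hr
      simp only [P, Finset.mem_insert, Finset.mem_singleton] at hu hv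
      rcases hu with rfl | rfl | rfl | rfl | rfl <;> rcases hv with rfl | rfl | rfl | rfl | rfl <;>
        first
          | exact absurd rfl hne
          | exact (ra _ (by assumption)).1
          | exact hs (ra _ (by assumption)).1
          | assumption
          | exact hs (by assumption)
    have hnot : c₀ ∉ P := by
      simp only [P, Finset.mem_insert, Finset.mem_singleton]
      have hd := Finset.disjoint_left.1 (orbits_disjoint h)
      rintro (e | e | e | e | e)
      · exact (base_notMem h).2 (e ▸ hc₀)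
      all_goals exact hd (by assumption : _ ∈ orbFin G a b) (e ▸ hc₀)
    have h5 := five_clique h hp P hPc hPcl c₀ hnot
    have hna : ¬ Rel G a b a c₀ := fun hr => Finset.disjoint_left.1 (orbits_disjoint h) ((rel_base_iff _).1 hr) hc₀
    have conv : ∀ y ∈ orbFin G a b, (S (n.ψ y).val).toNat = if Rel G a b y c₀ then 1 else 0 := by
      intro y hy
      by_cases hr : Rel G a b y c₀
      · rw [if_pos hr, (hS y hy).2 ((rel_comm h _ _).1 hr), Bool.toNat_true]
      · rw [if_neg hr]
        cases hb : S (n.ψ y).val with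
        | false => rfl
        | true => exact absurd ((rel_comm h _ _).1 ((hS y hy).1 hb)) hr
    unfold cntS
    rw [← v1, ← v2, ← v3, ← v4, conv y1 m1, conv y2 m2, conv y3 m3, conv y4 m4]
    rw [Finset.card_filter] at h5
    simp only [P] at h5
    rw [Finset.sum_insert (by simp [(ra _ m1).2, (ra _ m2).2, (ra _ m3).2, (ra _ m4).2]),
      Finset.sum_insert (by simp [n12, n13, n14]), Finset.sum_insert (by simp [n23, n24]),
      Finset.sum_insert (by simp [n34]), Finset.sum_singleton, if_neg hna] at h5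
    omega
  have h1 : S 1 = true := by
    have := (hS y₁ hy₁).2 hrel
    rwa [e₁] at this
  obtain ⟨k, hk, hSk⟩ := exists_listed hcl h1
  rw [hemTab_length] at hk
  obtain ⟨s, hs, hsQ, hsA, hsH⟩ := exists_sig (i := k / 162) (by omega)
  have hkeep : ∀ (σ : ↥KG) (y : Fin 275), QPt ((σ : Equiv.Perm (Fin 275)) y) ↔ QPt y := fun σ y =>
    (aut_fix_zero (kg_mem_autG σ.2) (kgrp_fix_zero σ.2) y).1
  -- an element of the group is determined on the near points
  have huniq : ∀ σ τ : ↥KG, (∀ y, QPt y → (σ : Equiv.Perm (Fin 275)) y = (τ : Equiv.Perm (Fin 275)) y) →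
      σ = τ := by
    intro σ τ he
    refine Subtype.ext (Equiv.ext fun y => ?_)
    by_cases hq : QPt y
    · exact he y hq
    by_cases ho : OPt y
    · refine opt_ext ((aut_fix_zero (kg_mem_autG σ.2) (kgrp_fix_zero σ.2) y).2.2 ho)
        ((aut_fix_zero (kg_mem_autG τ.2) (kgrp_fix_zero τ.2) y).2.2 ho) fun z hz => ?_
      obtain ⟨w, rfl⟩ := (σ : Equiv.Perm (Fin 275)).surjective z
      have hw := (hkeep σ w).1 hz
      rw [mem_autG (kg_mem_autG σ.2), he w hw, mem_autG (kg_mem_autG τ.2)]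
    · have : y = 0 := by
        unfold QPt at hq; unfold OPt at ho
        exact Fin.ext (by show y.val = 0; omega)
      rw [this, kgrp_fix_zero σ.2, kgrp_fix_zero τ.2]
  have hex : ∀ σ : ↥KG, ∃ τ : ↥KG, ∀ y, QPt y →
      s ((τ : Equiv.Perm (Fin 275)) y) = (σ : Equiv.Perm (Fin 275)) (s y) := fun σ => by
    obtain ⟨τ, hτ, e⟩ := exists_norm (by omega) hs hsQ σ.2
    exact ⟨⟨τ, hτ⟩, e⟩
  choose T hT using hex
  let Th : ↥KG →* ↥KG := MonoidHom.mk' T fun σ τ => huniq _ _ fun y hy => s.injective (by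
    rw [hT (σ * τ) y hy, Subgroup.coe_mul, Subgroup.coe_mul, Equiv.Perm.mul_apply, Equiv.Perm.mul_apply,
      hT σ _ ((hkeep _ y).2 hy), hT τ y hy])
  have hTinj : Function.Injective Th := fun σ τ e => huniq σ τ fun y hy => by
    have hy' : QPt (s.symm y) := by rw [← hsQ, Equiv.apply_symm_apply]; exact hy
    have h1 := hT σ _ hy'
    have h2 := hT τ _ hy'
    rw [show T σ = T τ from e, h2, Equiv.apply_symm_apply] at h1
    exact h1.symm
  have hmaps : ∀ y ∈ orbFin G a b, QPt (s.symm (n.ψ y)) := fun y hy => by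
    rw [← hsQ, Equiv.apply_symm_apply]; exact n.maps y hy
  let n' : NearMap G a b :=
    { θ := n.θ.trans (MulEquiv.ofBijective Th ⟨hTinj, Finite.injective_iff_surjective.1 hTinj⟩)
      ψ := fun y => s.symm (n.ψ y)
      maps := hmaps
      inj := fun y hy z hz e => n.inj y hy z hz (s.symm.injective e)
      surj := fun w hw => by
        obtain ⟨y, hy, e⟩ := n.surj (s w) ((hsQ w).2 hw)
        exact ⟨y, hy, by rw [e, Equiv.symm_apply_apply]⟩
      eqv := fun g y hy => by
        show s.symm (n.ψ (g • y)) = (T (n.θ g) : Equiv.Perm (Fin 275)) (s.symm (n.ψ y))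
        rw [n.eqv g y hy, Equiv.symm_apply_eq, hT _ _ (hmaps y hy), Equiv.apply_symm_apply]
      adj := fun y hy z hz => by
        rw [n.adj y hy z hz, ← hsA _ _ (hmaps y hy) (hmaps z hz), Equiv.apply_symm_apply, Equiv.apply_symm_apply] }
  refine ⟨n', c₀, hc₀, ⟨113 + k % 162, by omega⟩, by unfold OPt; simp only; omega, fun y hy => ?_⟩
  show _ ↔ Adj _ (s.symm (n.ψ y))
  have := hsH (k % 162) (by omega) _ (hmaps y hy)
  rw [Equiv.apply_symm_apply, Nat.div_add_mod' k 162] at this
  rw [← hS y hy, hSk _ (n.maps y hy).1 (n.maps y hy).2]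
  exact this

/-- The graph is that of the model, with the point stabiliser going to the group at the base point. -/
theorem exists_graph_iso (h : RankThree G a b c) (hp : Params G a b c) (n : NearMap G a b) {c₀ : Ω}
    (hc₀ : c₀ ∈ orbFin G a c) {o : Fin 275} (ho : OPt o)
    (hmatch : ∀ y ∈ orbFin G a b, Rel G a b c₀ y ↔ Adj o (n.ψ y)) :
    ∃ e : Ω ≃ Fin 275, e a = 0 ∧ (∀ x y, Rel G a b x y ↔ Adj (e x) (e y)) ∧
      ∀ (s : MulAction.stabilizer G a) (x : Ω), e (s • x) = (n.θ s : Equiv.Perm (Fin 275)) (e x) := by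
  have hA : ∀ (σ : ↥KG) (u v : Fin 275),
      Adj ((σ : Equiv.Perm (Fin 275)) u) ((σ : Equiv.Perm (Fin 275)) v) ↔ Adj u v := fun σ =>
    mem_autG (kg_mem_autG σ.2)
  have hOk : ∀ (σ : ↥KG) (u : Fin 275), OPt ((σ : Equiv.Perm (Fin 275)) u) ↔ OPt u := fun σ u =>
    (aut_fix_zero (kg_mem_autG σ.2) (kgrp_fix_zero σ.2) u).2
  -- a far point has the neighbours of one far point of the model
  have hex : ∀ z ∈ orbFin G a c, ∃ x, OPt x ∧ ∀ y ∈ orbFin G a b, Rel G a b z y ↔ Adj x (n.ψ y) := by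
    intro z hz
    obtain ⟨t₀, ht₀⟩ := mem_orbFin.1 hc₀
    obtain ⟨t, rfl⟩ := mem_orbFin.1 hz
    obtain ⟨u, rfl⟩ : ∃ u, u * t₀ = t := ⟨t * t₀⁻¹, inv_mul_cancel_right _ _⟩
    refine ⟨(n.θ u : Equiv.Perm (Fin 275)) o, (hOk _ o).2 ho, fun y hy => ?_⟩
    obtain ⟨w, hw, rfl⟩ : ∃ w ∈ orbFin G a b, u • w = y := ⟨u⁻¹ • y, smul_mem_orbFin _ hy, smul_inv_smul u y⟩
    rw [mul_smul, ht₀, rel_smul_stab, n.eqv u w hw, hA, hmatch w hw]
  have hun : ∀ x x', OPt x → OPt x' → (∀ y ∈ orbFin G a b, Adj x (n.ψ y) ↔ Adj x' (n.ψ y)) → x = x' :=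
    fun x x' hx hx' he => opt_ext hx hx' fun w hw => by
      obtain ⟨y, hy, rfl⟩ := n.surj w hw
      exact he y hy
  choose φ hφO hφ using hex
  let f : Ω → Fin 275 := fun x =>
    if hx : x ∈ orbFin G a c then φ x hx else if x ∈ orbFin G a b then n.ψ x else 0
  have hfa : f a = 0 := by simp [f, (base_notMem h).1, (base_notMem h).2]
  have hfb : ∀ y ∈ orbFin G a b, f y = n.ψ y := fun y hy => by
    simp [f, hy, Finset.disjoint_left.1 (orbits_disjoint h) hy]
  have hfc : ∀ z, ∀ hz : z ∈ orbFin G a c, f z = φ z hz := fun z hz => by simp [f, hz]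
  have heqv : ∀ (s : MulAction.stabilizer G a) (x : Ω), f (s • x) = (n.θ s : Equiv.Perm (Fin 275)) (f x) := by
    intro s x
    rcases cases_point h x with rfl | hx | hx
    · rw [stab_smul_base, hfa, kgrp_fix_zero (n.θ s).2]
    · rw [hfb x hx, hfb _ (smul_mem_orbFin s hx), n.eqv s x hx]
    · rw [hfc x hx, hfc _ (smul_mem_orbFin s hx)]
      refine hun _ _ (hφO _ _) ((hOk _ _).2 (hφO _ _)) fun y hy => ?_
      obtain ⟨w, hw, rfl⟩ : ∃ w ∈ orbFin G a b, s • w = y := ⟨s⁻¹ • y, smul_mem_orbFin _ hy, smul_inv_smul s y⟩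
      rw [← hφ _ (smul_mem_orbFin s hx) _ hy, rel_smul_stab, n.eqv s w hw, hA, hφ x hx w hw]
  have hsurj : Function.Surjective f := by
    intro u
    by_cases hq : QPt u
    · obtain ⟨y, hy, e⟩ := n.surj u hq
      exact ⟨y, (hfb y hy).trans e⟩
    by_cases hu : OPt u
    · obtain ⟨σ, hσ, e1⟩ := trans_O _ (hφO c₀ hc₀)
      obtain ⟨τ, hτ, e2⟩ := trans_O u hu
      refine ⟨(n.θ.symm (⟨τ, hτ⟩ * (⟨σ, hσ⟩ : ↥KG)⁻¹)) • c₀, ?_⟩
      rw [heqv, MulEquiv.apply_symm_apply, hfc c₀ hc₀, Subgroup.coe_mul, Subgroup.coe_inv,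
        Equiv.Perm.mul_apply, Equiv.Perm.inv_def]
      show τ (σ.symm _) = u
      rw [← e1, Equiv.symm_apply_apply, e2]
    · refine ⟨a, hfa.trans (Fin.ext ?_)⟩
      unfold QPt at hq; unfold OPt at hu
      show (0 : ℕ) = u.val
      omega
  have hbij : Function.Bijective f :=
    (Fintype.bijective_iff_surjective_and_card f).2 ⟨hsurj, by rw [h.card_points, Fintype.card_fin]⟩
  -- the far points
  obtain ⟨z₁, hz₁⟩ := hbij.2 o1
  have hz₁C : z₁ ∈ orbFin G a c := by
    rcases cases_point h z₁ with rfl | hx | hx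
    · rw [hfa] at hz₁; simp [o1] at hz₁
    · rw [hfb z₁ hx] at hz₁; have := (n.maps z₁ hx).2; rw [hz₁] at this; simp [o1] at this
    · exact hx
  have hU : (nbrs G a b z₁ ∩ orbFin G a c).image f = far56 := by
    refine far_union _ (fun σ hσ h1 w hw => ?_) (fun w hw => ?_) ?_
    · obtain ⟨z, hz, rfl⟩ := Finset.mem_image.1 hw
      obtain ⟨hzn, hzc⟩ := Finset.mem_inter.1 hz
      obtain ⟨t, ht⟩ := n.θ.surjective ⟨σ, hσ⟩
      have hσt : (n.θ t : Equiv.Perm (Fin 275)) = σ := congrArg Subtype.val ht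
      have hfix : t • z₁ = z₁ := hbij.1 (by rw [heqv, hσt, hz₁, h1])
      refine Finset.mem_image.2 ⟨t • z, Finset.mem_inter.2 ⟨mem_nbrs.2 ?_, smul_mem_orbFin t hzc⟩, ?_⟩
      · have := (rel_smul_stab t _ _).2 (mem_nbrs.1 hzn)
        rwa [hfix] at this
      · rw [heqv, hσt]
    · obtain ⟨z, hz, rfl⟩ := Finset.mem_image.1 hw
      obtain ⟨hzn, hzc⟩ := Finset.mem_inter.1 hz
      refine ⟨(hfc z hzc).symm ▸ hφO z hzc, fun e => ?_⟩
      have := hbij.1 (e.trans hz₁.symm)
      rw [this] at hzn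
      exact rel_irrefl h z₁ (mem_nbrs.1 hzn)
    · rw [Finset.card_image_of_injective _ hbij.1]
      have hs := card_nbrs_split h z₁
      have ha : nbrs G a b z₁ ∩ {a} = ∅ := Finset.eq_empty_of_forall_notMem fun w hw => by
        obtain ⟨h1, h2⟩ := Finset.mem_inter.1 hw
        rw [Finset.mem_singleton.1 h2, mem_nbrs, rel_comm h, rel_base_iff] at h1
        exact Finset.disjoint_left.1 (orbits_disjoint h) h1 hz₁C
      rw [ha, Finset.card_empty, hp.far_near z₁ hz₁C] at hs
      omega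
  have hadj : ∀ x y, Rel G a b x y ↔ Adj (f x) (f y) := by
    have base : ∀ y, Rel G a b a y ↔ Adj (f a) (f y) := by
      intro y
      rw [hfa, adj_zero_iff, rel_base_iff]
      rcases cases_point h y with rfl | hy | hy
      · simp [hfa, QPt, (base_notMem h).1]
      · simp only [hy, hfb y hy, n.maps y hy]
      · have := hφO y hy
        rw [hfc y hy]
        unfold OPt at this
        simp only [Finset.disjoint_right.1 (orbits_disjoint h) hy, false_iff]
        unfold QPt
        omega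
    have nearfar : ∀ z ∈ orbFin G a c, ∀ y ∈ orbFin G a b, Rel G a b z y ↔ Adj (f z) (f y) := fun z hz y hy => by
      rw [hfc z hz, hfb y hy, hφ z hz y hy]
    have farfar : ∀ x ∈ orbFin G a c, ∀ y ∈ orbFin G a c, Rel G a b x y ↔ Adj (f x) (f y) := by
      intro x hx y hy
      obtain ⟨t₁, ht₁⟩ := mem_orbFin.1 hz₁C
      obtain ⟨t, rfl⟩ := mem_orbFin.1 hx
      obtain ⟨u, rfl⟩ : ∃ u, u * t₁ = t := ⟨t * t₁⁻¹, inv_mul_cancel_right _ _⟩
      obtain ⟨w, hw, rfl⟩ : ∃ w ∈ orbFin G a c, u • w = y := ⟨u⁻¹ • y, smul_mem_orbFin _ hy, smul_inv_smul u y⟩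
      rw [mul_smul, ht₁, rel_smul_stab, heqv, heqv, hA, hz₁]
      constructor
      · intro hr
        have : f w ∈ far56 := hU ▸ Finset.mem_image.2 ⟨w, Finset.mem_inter.2 ⟨mem_nbrs.2 hr, hw⟩, rfl⟩
        exact (Finset.mem_filter.1 this).2.2
      · intro ha
        have : f w ∈ far56 := Finset.mem_filter.2 ⟨Finset.mem_univ _, (hfc w hw).symm ▸ hφO w hw, ha⟩
        rw [← hU] at this
        obtain ⟨v, hv, e⟩ := Finset.mem_image.1 this
        rw [← hbij.1 e]
        exact mem_nbrs.1 (Finset.mem_inter.1 hv).1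
    intro x y
    rcases cases_point h x with rfl | hx | hx
    · exact base y
    · rcases cases_point h y with rfl | hy | hy
      · rw [rel_comm h, base, adj_comm]
      · rw [hfb x hx, hfb y hy, n.adj x hx y hy]
      · rw [rel_comm h, nearfar y hy x hx, adj_comm]
    · rcases cases_point h y with rfl | hy | hy
      · rw [rel_comm h, base, adj_comm]
      · exact nearfar x hx y hy
      · exact farfar x hx y hy
  exact ⟨Equiv.ofBijective f hbij, hfa, hadj, heqv⟩

end CfsgLib.McLRec
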