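import Cfsg.Agent.Lib.McLRec.Far
import Cfsg.Agent.Lib.McLRec.Bound

/-!
# The group is that of the model
-/

set_option autoImplicit false
set_option maxRecDepth 100000
set_option linter.unusedSectionVars false

open scoped Classical

namespace CfsgLib.McLRec

open CfsgLib.LeechPSU

local notation "KG" => permGroup 275 [code0, code1]
local notation "MG" => permGroup 275 [code0, code1, code2]

/-- A subgroup of index at most four in a simple group of order above 24 is everything. -/
theorem eq_top_of_index_le {H : Type*} [Group H] [Finite H] [IsSimpleGroup H] (hcard : 24 < Nat.card H)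
    (D : Subgroup H) (hD : D.index ≤ 4) : D = ⊤ := by
  rcases (Subgroup.normalCore_normal D).eq_bot_or_eq_top with hb | ht
  · exfalso
    have hinj : Function.Injective (MulAction.toPermHom H (H ⧸ D)) := by
      rw [← MonoidHom.ker_eq_bot_iff, ← D.normalCore_eq_ker, hb]
    have h1 := Nat.card_le_card_of_injective _ hinj
    rw [Nat.card_perm] at h1
    have h2 : (Nat.card (H ⧸ D)).factorial ≤ (4).factorial := Nat.factorial_le hD
    simp [Nat.factorial] at h2
    omega
  · exact top_le_iff.1 (ht ▸ D.normalCore_le)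

variable {Ω : Type*} [Fintype Ω] [DecidableEq Ω] {G : Subgroup (Equiv.Perm Ω)} {a b c : Ω}

/-- A transitive group of automorphisms with the given point stabiliser is the group of the model. -/
theorem group_eq (G' : Subgroup (Equiv.Perm (Fin 275))) (haut : G' ≤ autG) (hK : KG ≤ G')
    (hcard : Nat.card G' = 898128000) (htrans : ∀ x, ∃ g ∈ G', g 0 = x) : G' = MG := by
  obtain ⟨m, hm, hm0, k₁, hk₁, k₂, hk₂, hQ, hO⟩ := exists_mover_elem
  obtain ⟨g, hg, hg0⟩ := htrans q1
  set α : Equiv.Perm (Fin 275) := m⁻¹ * g with hα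
  have hαaut : α ∈ autZero := by
    refine ⟨(show α ∈ autG from mul_mem (inv_mem (mgrp_le_autG hm)) (haut hg)), ?_⟩
    show m.symm (g 0) = 0
    rw [hg0, ← hm0, Equiv.symm_apply_apply]
  have hKA : KG ≤ autZero := fun σ hσ => ⟨kg_mem_autG hσ, kgrp_fix_zero hσ⟩
  let K' : Subgroup (Equiv.Perm (Fin 275)) := Subgroup.map (MulAut.conj α).toMonoidHom KG
  have hK'card : Nat.card K' = 3265920 := by
    show Nat.card (Subgroup.map _ KG) = _
    rw [Subgroup.card_map_of_injective (MulEquiv.injective _)]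
    exact card_Kgrp
  have hK'A : K' ≤ autZero := by
    rintro _ ⟨σ, hσ, rfl⟩
    exact mul_mem (mul_mem hαaut (hKA hσ)) (inv_mem hαaut)
  have hsub : KG ≤ K' := by
    have : IsSimpleGroup ↥KG := simple_Kgrp
    have hnz : K'.relIndex autZero ≠ 0 := Subgroup.index_ne_zero_of_finite
    have h1 : K'.relIndex KG ≤ K'.relIndex autZero := Subgroup.relIndex_le_of_le_right hKA hnz
    have h2 : Nat.card K' * K'.relIndex autZero = Nat.card autZero := by
      rw [← Nat.card_congr (Subgroup.subgroupOfEquivOfLe hK'A).toEquiv]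
      exact Subgroup.card_mul_index _
    have h3 := card_autZero_le
    rw [hK'card] at h2
    have h4 : (K'.subgroupOf KG).index ≤ 4 := by
      show K'.relIndex KG ≤ 4
      omega
    have h24 : 24 < Nat.card ↥KG := by
      show 24 < Nat.card ↥Kgrp
      rw [card_Kgrp]; norm_num
    exact Subgroup.subgroupOf_eq_top.1 (eq_top_of_index_le h24 _ h4)
  have heq : K' = KG := by
    refine (Subgroup.eq_of_le_of_card_ge hsub ?_).symm
    rw [hK'card]
    exact le_of_eq card_Kgrp.symm
  have hconj : ∀ σ ∈ KG, m * σ * m⁻¹ ∈ G' := by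
    intro σ hσ
    rw [← heq] at hσ
    obtain ⟨τ, hτ, rfl⟩ := hσ
    have : m * (MulAut.conj α).toMonoidHom τ * m⁻¹ = g * τ * g⁻¹ := by
      show m * (α * τ * α⁻¹) * m⁻¹ = _
      rw [hα]; group
    rw [this]
    exact mul_mem (mul_mem hg (hK hτ)) (inv_mem hg)
  let X : Subgroup (Equiv.Perm (Fin 275)) := KG ⊔ Subgroup.map (MulAut.conj m).toMonoidHom KG
  have hXG : X ≤ G' := sup_le hK (by rintro _ ⟨σ, hσ, rfl⟩; exact hconj σ hσ)
  have hXM : X ≤ MG := sup_le kgrp_le (by
    rintro _ ⟨σ, hσ, rfl⟩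
    exact mul_mem (mul_mem hm (kgrp_le hσ)) (inv_mem hm))
  have hKX : KG ≤ X := le_sup_left
  have hmX : ∀ σ ∈ KG, m * σ * m⁻¹ ∈ X := fun σ hσ =>
    Subgroup.mem_sup_right (Subgroup.mem_map_of_mem _ hσ)
  have horb : ∀ x, x ∈ MulAction.orbit X (0 : Fin 275) := by
    intro x
    by_cases hq : QPt x
    · obtain ⟨σ, hσ, e1⟩ := trans_Q _ hQ
      obtain ⟨τ, hτ, e2⟩ := trans_Q x hq
      refine ⟨⟨τ * σ⁻¹ * (m * k₁ * m⁻¹), mul_mem (mul_mem (hKX hτ) (inv_mem (hKX hσ))) (hmX _ hk₁)⟩, ?_⟩
      show τ (σ.symm (m (k₁ (m⁻¹ 0)))) = x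
      rw [← e1, Equiv.symm_apply_apply, e2]
    by_cases ho : OPt x
    · obtain ⟨σ, hσ, e1⟩ := trans_O _ hO
      obtain ⟨τ, hτ, e2⟩ := trans_O x ho
      refine ⟨⟨τ * σ⁻¹ * (m * k₂ * m⁻¹), mul_mem (mul_mem (hKX hτ) (inv_mem (hKX hσ))) (hmX _ hk₂)⟩, ?_⟩
      show τ (σ.symm (m (k₂ (m⁻¹ 0)))) = x
      rw [← e1, Equiv.symm_apply_apply, e2]
    · refine ⟨1, ?_⟩
      unfold QPt at hq; unfold OPt at ho
      refine Fin.ext ?_
      show (0 : ℕ) = x.val
      omega
  have hXcard : 898128000 ≤ Nat.card X := by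
    have hi := (MulAction.stabilizer X (0 : Fin 275)).index_mul_card
    have h275 : (MulAction.orbit X (0 : Fin 275)).ncard = 275 := by
      rw [Set.eq_univ_of_forall horb, Set.ncard_univ, Nat.card_fin]
    rw [MulAction.index_stabilizer, h275] at hi
    have hle : 3265920 ≤ Nat.card (MulAction.stabilizer X (0 : Fin 275)) := by
      refine le_trans (le_of_eq card_Kgrp.symm) ?_
      refine Nat.card_le_card_of_injective
        (fun σ : ↥KG => (⟨⟨σ.1, hKX σ.2⟩, kgrp_fix_zero σ.2⟩ : MulAction.stabilizer X (0 : Fin 275))) ?_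
      intro σ τ e
      exact Subtype.ext (congrArg (fun z : MulAction.stabilizer X (0 : Fin 275) => (z.1.1 : Equiv.Perm (Fin 275))) e)
    omega
  have e1 : X = G' := Subgroup.eq_of_le_of_card_ge hXG (by rw [hcard]; exact hXcard)
  have e2 : X = MG := Subgroup.eq_of_le_of_card_ge hXM (le_trans (le_of_eq card_Mgrp) hXcard)
  exact e1.symm.trans e2

/-- The group is isomorphic to the group of the model. -/
theorem iso_Mgrp (h : RankThree G a b c) (θ₀ : MulAction.stabilizer G a ≃* ↥KG) :
    Nonempty (↥G ≃* ↥MG) := by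
  obtain ⟨⟨n⟩, hp⟩ := exists_near h θ₀
  obtain ⟨n', c₀, hc₀, o, ho, hmatch⟩ := exists_matched h hp n
  obtain ⟨e, hea, hadj, heqv⟩ := exists_graph_iso h hp n' hc₀ ho hmatch
  let G' : Subgroup (Equiv.Perm (Fin 275)) := G.map e.permCongrHom.toMonoidHom
  have happ : ∀ (g : Equiv.Perm Ω) (x : Fin 275), e.permCongrHom g x = e (g (e.symm x)) := fun g x => rfl
  have haut : G' ≤ autG := by
    rintro _ ⟨g, hg, rfl⟩ x y
    show Adj (e (g (e.symm x))) (e (g (e.symm y))) ↔ _
    rw [← hadj]
    have := rel_smul (a := a) (b := b) (⟨g, hg⟩ : G) (e.symm x) (e.symm y)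
    refine this.trans ?_
    rw [hadj, Equiv.apply_symm_apply, Equiv.apply_symm_apply]
  have hKG : KG ≤ G' := by
    intro σ hσ
    obtain ⟨s, hs⟩ := n'.θ.surjective ⟨σ, hσ⟩
    refine ⟨(s : G), (s : G).2, Equiv.ext fun x => ?_⟩
    show e (s • e.symm x) = σ x
    rw [heqv, hs, Equiv.apply_symm_apply]
  have htrans : ∀ x, ∃ g ∈ G', g 0 = x := by
    intro x
    obtain ⟨g, hg⟩ := h.trans (e.symm x)
    refine ⟨_, ⟨g, g.2, rfl⟩, ?_⟩
    show e ((g : Equiv.Perm Ω) (e.symm 0)) = x
    rw [← hea, Equiv.symm_apply_apply]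
    show e (g • a) = x
    rw [hg, Equiv.apply_symm_apply]
  have hGcard : Nat.card G = 898128000 := by
    have hi := (MulAction.stabilizer G a).index_mul_card
    have : MulAction.orbit G a = Set.univ := Set.eq_univ_of_forall fun x => h.trans x
    rw [MulAction.index_stabilizer, this, Set.ncard_univ, Nat.card_eq_fintype_card (α := Ω), h.card_points,
      Nat.card_congr θ₀.toEquiv] at hi
    have h2 : Nat.card ↥KG = 3265920 := card_Kgrp
    rw [h2] at hi
    omega
  have hinj : Function.Injective e.permCongrHom.toMonoidHom := MulEquiv.injective _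
  have hcard : Nat.card G' = 898128000 := by
    show Nat.card (G.map _) = _
    rw [Subgroup.card_map_of_injective hinj, hGcard]
  exact ⟨(G.equivMapOfInjective _ hinj).trans (MulEquiv.subgroupCongr (group_eq G' haut hKG hcard htrans))⟩

end CfsgLib.McLRec
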