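import Cfsg.Agent.Lib.McLRec.Sets

/-!
# A subgroup of order 29160 fixes a near point
-/

set_option autoImplicit false
set_option maxRecDepth 100000

namespace CfsgLib.McLRec

open CfsgLib.LeechPSU
open scoped Pointwise

local notation "KG" => permGroup 275 [code0, code1]

/-- The points of the tree of length 26. -/
noncomputable def mask27 : ℕ :=
  treeP27.foldr (fun e r => r ||| 2 ^ fieldAt (knownK.getD (gensP.getD e.2 0) 0) e.1) (2 ^ rootP27)

/-- The checks on this set. -/
noncomputable def mask27B : Bool :=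
  (gensP.all fun i => Nat.beq (imgMask (knownK.getD i 0) mask27) mask27) &&
  Nat.beq ((List.range 275).countP fun y => mask27.testBit y) 27 && mask27.testBit rootP27 &&
  !mask27.testBit rootP3 &&
  (List.range 275).all fun y => !mask27.testBit y || (decide (1 ≤ y ∧ y ≤ 112) && adjB 1 y)

theorem mask27_ok : mask27B = true := by decide +kernel

/-- The orbit of length 27. -/
noncomputable def near27 : Finset (Fin 275) := Finset.univ.filter fun y => mask27.testBit y.val = true

/-- The orbit of length 3. -/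
noncomputable def near3 : Finset (Fin 275) := near30 \ near27

theorem near27_facts : near27.card = 27 ∧ near27 ⊆ near30 := by
  have h := mask27_ok
  simp only [mask27B, Bool.and_eq_true, Nat.beq_eq, List.all_eq_true, List.mem_range, Bool.or_eq_true,
    Bool.not_eq_true', decide_eq_true_eq] at h
  refine ⟨(countP_eq_card _).symm.trans h.1.1.1.2, fun y hy => ?_⟩
  simp only [near27, Finset.mem_filter] at hy
  rcases h.2 y.val y.isLt with h' | h'
  · rw [h'] at hy; simp at hy
  · exact Finset.mem_filter.2 ⟨Finset.mem_univ _, h'.1, h'.2⟩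

theorem near3_card : near3.card = 3 := by
  rw [near3, Finset.card_sdiff_of_subset near27_facts.2, near30_card, near27_facts.1]

/-- The group of order 81. -/
noncomputable def threeGrp : Subgroup (Equiv.Perm (Fin 275)) :=
  Subgroup.closure {σ | ∃ i ∈ gensP, IsCode (knownK.getD i 0) σ}

theorem threeGrp_facts : threeGrp ≤ KG ⊓ MulAction.stabilizer (Equiv.Perm (Fin 275)) q1 ∧
    Nat.card threeGrp = 81 ∧ ∀ i ∈ gensP, ∃ σ ∈ threeGrp, IsCode (knownK.getD i 0) σ := by
  classical
  have h := three_ok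
  simp only [threeB, Bool.and_eq_true, List.all_eq_true, List.mem_range, decide_eq_true_eq, Nat.beq_eq] at h
  obtain ⟨⟨⟨⟨⟨⟨⟨⟨⟨⟨⟨⟨⟨⟨⟨⟨⟨⟨hlen, hsel⟩, hel⟩, hcl⟩, hst⟩, hone⟩, hnd⟩, hstep⟩, hclose⟩, -⟩, -⟩, -⟩, -⟩, -⟩, -⟩, -⟩, -⟩, -⟩, -⟩ := h
  have hgen : ∀ i ∈ gensP, ∃ σ ∈ threeGrp, IsCode (knownK.getD i 0) σ := fun i hi => by
    obtain ⟨σ, -, hc⟩ := sel_gen (x := q1) hsel i hi
    exact ⟨σ, Subgroup.subset_closure ⟨i, hi, hc⟩, hc⟩
  have hle : threeGrp ≤ KG ⊓ MulAction.stabilizer (Equiv.Perm (Fin 275)) q1 := by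
    refine (Subgroup.closure_le _).2 ?_
    rintro σ ⟨i, hi, hσ⟩
    obtain ⟨τ, hτ, hc⟩ := sel_gen (x := q1) hsel i hi
    rw [isCode_unique hσ hc]; exact hτ
  have hg : ∀ k < 2, gensP.getD k 0 ∈ gensP := fun k hk => by
    rw [List.getD_eq_getElem _ _ (by omega)]; exact List.getElem_mem _
  have hex : ∀ t < 81, ∃ σ ∈ threeGrp, IsCode (elemsP.getD t 0) σ := by
    intro t
    induction t using Nat.strongRecOn with
    | ind t ih =>
      intro ht
      cases t with
      | zero => exact ⟨1, one_mem _, fun y => (hone y.val y.isLt).symm⟩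
      | succ t =>
        obtain ⟨⟨h1, h2⟩, h3⟩ := hstep t (by omega)
        obtain ⟨σ, hσ, cσ⟩ := ih _ (by omega) (by omega : (stepsP.getD t (0, 0)).1 < 81)
        obtain ⟨g, hgm, cg⟩ := hgen _ (hg _ h2)
        exact ⟨g * σ, mul_mem hgm hσ, fun y => by
          rw [Equiv.Perm.mul_apply, cg, cσ, h3 y.val y.isLt]⟩
  choose f hf hfc using hex
  let F : Fin 81 → Equiv.Perm (Fin 275) := fun t => f t.val t.isLt
  have hFinj : Function.Injective F := by
    intro s t e
    have hl : (elemsP.map fun e => (List.range 275).map fun y => fieldAt e y)[s.val]'(by simp; omega) =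
        (elemsP.map fun e => (List.range 275).map fun y => fieldAt e y)[t.val]'(by simp; omega) := by
      rw [List.getElem_map, List.getElem_map]
      refine List.map_congr_left fun y hy => ?_
      rw [List.mem_range] at hy
      have h1 := hfc s.val s.isLt ⟨y, hy⟩
      have h2 := hfc t.val t.isLt ⟨y, hy⟩
      rw [List.getD_eq_getElem _ _ (by omega)] at h1 h2
      have e' : f s.val s.isLt = f t.val t.isLt := e
      rw [← h1, ← h2, e']
    exact Fin.ext ((hnd.getElem_inj_iff).1 hl)
  let S : Set (Equiv.Perm (Fin 275)) := Set.range F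
  have hmul : ∀ i ∈ gensP, ∀ g, IsCode (knownK.getD i 0) g → ∀ σ ∈ S, g * σ ∈ S := by
    rintro i hi g cg _ ⟨t, rfl⟩
    obtain ⟨k, hk, rfl⟩ := List.getElem_of_mem hi
    obtain ⟨⟨hc1, hc2⟩, hc3⟩ := hclose t.val t.isLt
    rw [← List.getD_eq_getElem gensP 0 hk] at cg
    rcases (by omega : k = 0 ∨ k = 1) with rfl | rfl
    · refine ⟨⟨_, hc1⟩, Equiv.ext fun y => Fin.ext ?_⟩
      rw [hfc, (hc3 y.val y.isLt).1, Equiv.Perm.mul_apply, cg, hfc]
    · refine ⟨⟨_, hc2⟩, Equiv.ext fun y => Fin.ext ?_⟩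
      rw [hfc, (hc3 y.val y.isLt).2, Equiv.Perm.mul_apply, cg, hfc]
  have hclosed : ∀ x ∈ threeGrp, ∀ σ ∈ S, x * σ ∈ S := by
    intro x hx
    induction hx using Subgroup.closure_induction with
    | mem g hg => obtain ⟨i, hi, hgi⟩ := hg; exact hmul i hi g hgi
    | one => intro σ hσ; rwa [one_mul]
    | mul a b _ _ ha hb => intro σ hσ; rw [mul_assoc]; exact ha _ (hb σ hσ)
    | inv a _ ha =>
      intro σ hσ
      have hinj : Function.Injective (fun s : S => (⟨a * s.1, ha s.1 s.2⟩ : S)) :=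
        fun u v e => Subtype.ext (mul_left_cancel (congrArg Subtype.val e))
      have hsurj := Finite.injective_iff_surjective.1 hinj
      obtain ⟨τ, hτ⟩ := hsurj ⟨σ, hσ⟩
      have : a * τ.1 = σ := congrArg Subtype.val hτ
      rw [← this, inv_mul_cancel_left]
      exact τ.2
  have hone' : (1 : Equiv.Perm (Fin 275)) ∈ S := ⟨⟨0, by norm_num⟩, Equiv.ext fun y => Fin.ext (by
    rw [hfc]; exact hone y.val y.isLt)⟩
  have hset : (threeGrp : Set (Equiv.Perm (Fin 275))) = S := by
    refine Set.Subset.antisymm (fun x hx => by simpa using hclosed x hx 1 hone') ?_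
    rintro _ ⟨t, rfl⟩
    exact hf _ _
  refine ⟨hle, ?_, hgen⟩
  rw [← SetLike.coe_sort_coe, hset, Nat.card_range_of_injective hFinj, Nat.card_eq_fintype_card, Fintype.card_fin]

theorem near_classes (C : Finset (Fin 275)) (hC : C = near3 ∨ C = near27 ∨ C = near81) :
    ∀ y ∈ C, ∀ z ∈ C, ∃ σ ∈ threeGrp, σ y = z := by
  classical
  obtain ⟨hle, -, hgen⟩ := threeGrp_facts
  have h := three_ok
  simp only [threeB, Bool.and_eq_true, List.all_eq_true, List.mem_range, decide_eq_true_eq, Nat.beq_eq] at h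
  obtain ⟨⟨⟨⟨⟨⟨⟨⟨⟨⟨-, t3⟩, l3⟩, t27⟩, l27⟩, t81⟩, l81⟩, r3⟩, a3⟩, r27⟩, r81⟩ := h
  have h81 : ∀ σ ∈ threeGrp, ∀ y, σ y ∈ near81 ↔ y ∈ near81 := fun σ hσ y =>
    (near30_inv (hle hσ).1 (hle hσ).2 y).2
  have h30 : ∀ σ ∈ threeGrp, ∀ y, σ y ∈ near30 ↔ y ∈ near30 := fun σ hσ y =>
    (near30_inv (hle hσ).1 (hle hσ).2 y).1
  have hm := mask27_ok
  simp only [mask27B, Bool.and_eq_true, Nat.beq_eq, List.all_eq_true, List.mem_range, Bool.not_eq_true'] at hm
  obtain ⟨⟨⟨⟨himg, -⟩, hr27⟩, hr3⟩, -⟩ := hm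
  have h27 : ∀ σ ∈ threeGrp, ∀ y, σ y ∈ near27 ↔ y ∈ near27 := by
    intro σ hσ
    induction hσ using Subgroup.closure_induction with
    | mem g hg =>
      obtain ⟨i, hi, hgi⟩ := hg
      intro y
      simp only [near27, Finset.mem_filter, Finset.mem_univ, true_and]
      conv_lhs => rw [← himg i hi, testBit_imgMask]
      constructor
      · rintro ⟨j, hj, hb, e⟩
        have : (⟨j, hj⟩ : Fin 275) = y := g.injective (Fin.ext ((hgi _).trans (by rw [e])))
        rw [← this]; exact hb
      · exact fun hb => ⟨y.val, y.isLt, hb, (hgi y).symm⟩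
    | one => intro y; rfl
    | mul a b _ _ ha hb => intro y; rw [Equiv.Perm.mul_apply, ha, hb]
    | inv a _ ha =>
      intro y
      conv_rhs => rw [← Equiv.apply_symm_apply a y]
      rw [ha, Equiv.Perm.inv_def]
  have key : ∀ (D : Finset (Fin 275)) (root : Fin 275) (es : List (ℕ × ℕ)),
      treeOk 275 (gensP.map fun i => knownK.getD i 0) es (2 ^ root.val) = true → root ∈ D →
      D.card = es.length + 1 → (∀ σ ∈ threeGrp, ∀ y, σ y ∈ D ↔ y ∈ D) →
      ∀ y ∈ D, ∀ z ∈ D, ∃ σ ∈ threeGrp, σ y = z := by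
    intro D root es ht hr hc hinv y hy z hz
    have k := orbit_eq_of_tree threeGrp gensP root es hgen ht D (fun σ hσ => (hinv σ hσ root).2 hr) hc
    obtain ⟨σ, hσ, e1⟩ := k y hy
    obtain ⟨τ, hτ, e2⟩ := k z hz
    exact ⟨τ * σ⁻¹, mul_mem hτ (inv_mem hσ), by
      rw [← e1, Equiv.Perm.mul_apply, Equiv.Perm.inv_def, Equiv.symm_apply_apply, e2]⟩
  rcases hC with rfl | rfl | rfl
  · refine key near3 ⟨rootP3, by omega⟩ treeP3 t3 ?_ (by rw [near3_card, l3]) fun σ hσ y => ?_
    · simp only [near3, near30, near27, Finset.mem_sdiff, Finset.mem_filter, Finset.mem_univ, true_and]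
      exact ⟨⟨⟨r3.1, r3.2⟩, a3⟩, by rw [hr3]; simp⟩
    · simp only [near3, Finset.mem_sdiff, h30 σ hσ y, h27 σ hσ y]
  · exact key near27 ⟨rootP27, by omega⟩ treeP27 t27 (Finset.mem_filter.2 ⟨Finset.mem_univ _, hr27⟩)
      (by rw [near27_facts.1, l27]) h27
  · have ht := trees_ok
    simp only [treesB, Bool.and_eq_true, decide_eq_true_eq, Bool.not_eq_true'] at ht
    refine key near81 ⟨rootP81, by omega⟩ treeP81 t81 ?_ (by rw [near81_card, l81]) h81
    have : ((decide (2 ≤ rootP81) && !adjB 1 rootP81) : Bool) = true := by decide +kernel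
    simp only [Bool.and_eq_true, decide_eq_true_eq, Bool.not_eq_true'] at this
    simp only [near81, Finset.mem_filter, Finset.mem_univ, true_and]
    refine ⟨r81, fun e => ?_, ?_⟩
    · have := congrArg Fin.val e; simp [q1] at this; omega
    · intro (ha : adjB 1 rootP81 = true); rw [this.2] at ha; simp at ha

theorem exists_fixed (hK : Nat.card ↥KG = 3265920) (H : Subgroup ↥KG) (hH : Nat.card H = 29160) :
    ∃ y, QPt y ∧ ∀ h ∈ H, (h : Equiv.Perm (Fin 275)) y = y := by
  classical
  have : Fact (Nat.Prime 3) := ⟨Nat.prime_three⟩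
  have : Fact (Nat.Prime 5) := ⟨by norm_num⟩
  obtain ⟨hle, h81, -⟩ := threeGrp_facts
  set P : Subgroup KG := threeGrp.subgroupOf KG with hP
  have hPK : threeGrp ≤ KG := fun σ hσ => (hle hσ).1
  have hPp : IsPGroup 3 P :=
    IsPGroup.of_card (n := 4) (by rw [hP, Nat.card_congr (Subgroup.subgroupOfEquivOfLe hPK).toEquiv, h81]; norm_num)
  -- a Sylow subgroup of `H` is one of the whole group
  let T : Sylow 3 H := default
  have hT : Nat.card ((T : Subgroup H).map H.subtype) = 3 ^ (Nat.card ↥KG).factorization 3 := by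
    rw [← Nat.card_congr ((T : Subgroup H).equivMapOfInjective H.subtype H.subtype_injective).toEquiv,
      T.card_eq_multiplicity, hH, hK]
    have e1 : (29160 : ℕ).factorization 3 = 6 := by
      rw [show (29160 : ℕ) = 3 ^ 6 * 40 by norm_num, Nat.factorization_mul (by norm_num) (by norm_num),
        Finsupp.add_apply, Nat.Prime.factorization_pow Nat.prime_three, Finsupp.single_eq_same,
        Nat.factorization_eq_zero_of_not_dvd (by norm_num)]
    have e2 : (3265920 : ℕ).factorization 3 = 6 := by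
      rw [show (3265920 : ℕ) = 3 ^ 6 * 4480 by norm_num, Nat.factorization_mul (by norm_num) (by norm_num),
        Finsupp.add_apply, Nat.Prime.factorization_pow Nat.prime_three, Finsupp.single_eq_same,
        Nat.factorization_eq_zero_of_not_dvd (by norm_num)]
    rw [e1, e2]
  let TK : Sylow 3 KG := Sylow.ofCard _ hT
  obtain ⟨S, hS⟩ := hPp.exists_le_sylow
  obtain ⟨k, hk⟩ := MulAction.exists_smul_eq ↥KG S TK
  have hconj : ∀ p ∈ P, k * p * k⁻¹ ∈ H := by
    intro p hp
    have h1 : MulAut.conj k • p ∈ MulAut.conj k • (S : Subgroup KG) :=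
      Subgroup.smul_mem_pointwise_smul p _ _ (hS hp)
    have h2 : ((k • S : Sylow 3 KG) : Subgroup KG) = (TK : Subgroup KG) := congrArg _ hk
    rw [Sylow.coe_subgroup_smul] at h2
    rw [h2] at h1
    exact Subgroup.map_subtype_le _ (show k * p * k⁻¹ ∈ (T : Subgroup H).map H.subtype from h1)
  -- conjugate so that the three-group is inside
  let H' : Subgroup (Equiv.Perm (Fin 275)) := (H.map (MulAut.conj k⁻¹).toMonoidHom).map (KG).subtype
  have hH' : Nat.card H' = 29160 := by
    show Nat.card ((H.map _).map _ : Subgroup _) = _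
    rw [Subgroup.card_map_of_injective (KG).subtype_injective, Subgroup.card_map_of_injective (MulEquiv.injective _),
      hH]
  have hH'K : H' ≤ KG := Subgroup.map_subtype_le _
  have hPH : threeGrp ≤ H' := fun σ hσ => by
    refine ⟨⟨σ, hPK hσ⟩, ⟨k * ⟨σ, hPK hσ⟩ * k⁻¹, hconj _ hσ, ?_⟩, rfl⟩
    show k⁻¹ * (k * ⟨σ, hPK hσ⟩ * k⁻¹) * (k⁻¹)⁻¹ = _
    group
  let O : Finset (Fin 275) := Finset.univ.filter fun y => ∃ σ ∈ H', σ q1 = y
  have hOcard : O.card = (MulAction.orbit H' q1).ncard := by
    rw [← Set.ncard_coe_finset]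
    congr 1
    ext y
    simp only [O, Finset.coe_filter, Finset.mem_univ, true_and]
    exact ⟨fun ⟨σ, hσ, e⟩ => ⟨⟨σ, hσ⟩, e⟩, fun ⟨σ, e⟩ => ⟨σ.1, σ.2, e⟩⟩
  have hdvd : O.card ∣ 29160 := by
    rw [hOcard, ← MulAction.index_stabilizer, ← hH']
    exact Subgroup.index_dvd_card _
  have hclass : ∀ C : Finset (Fin 275), C = near3 ∨ C = near27 ∨ C = near81 →
      (O ∩ C = ∅ ∨ O ∩ C = C) := by
    intro C hC
    by_cases h : ∃ y ∈ O, y ∈ C
    · obtain ⟨y, hy, hyC⟩ := h
      refine Or.inr (Finset.inter_eq_right.2 fun z hz => ?_)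
      obtain ⟨τ, hτ, rfl⟩ := (Finset.mem_filter.1 hy).2
      obtain ⟨σ, hσ, e⟩ := near_classes C hC _ hyC z hz
      exact Finset.mem_filter.2 ⟨Finset.mem_univ _, σ * τ, mul_mem (hPH hσ) hτ, e⟩
    · exact Or.inl (Finset.eq_empty_of_forall_notMem fun y hy =>
        h ⟨y, (Finset.mem_inter.1 hy).1, (Finset.mem_inter.1 hy).2⟩)
  have hOQ : ∀ y ∈ O, QPt y := fun y hy => by
    obtain ⟨σ, hσ, rfl⟩ := (Finset.mem_filter.1 hy).2
    exact (aut_fix_zero (kg_mem_autG (hH'K hσ)) (kgrp_fix_zero (hH'K hσ)) q1).1.2 (by unfold QPt q1; decide)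
  have hq1 : q1 ∈ O := Finset.mem_filter.2 ⟨Finset.mem_univ _, 1, one_mem _, rfl⟩
  have hsplit : O = insert q1 ((O ∩ near3) ∪ (O ∩ near27) ∪ (O ∩ near81)) := by
    ext y
    simp only [Finset.mem_insert, Finset.mem_union, Finset.mem_inter]
    refine ⟨fun hy => ?_, ?_⟩
    · have hq := hOQ y hy
      by_cases h1 : y = q1
      · exact Or.inl h1
      right
      simp only [near3, Finset.mem_sdiff, near30, near81, Finset.mem_filter, Finset.mem_univ, true_and]
      tauto
    · rintro (rfl | (⟨h, -⟩ | ⟨h, -⟩) | ⟨h, -⟩) <;> assumption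
  have hd12 : Disjoint (O ∩ near3) (O ∩ near27) := Finset.disjoint_left.2 fun y h h' => by
    simp only [near3, Finset.mem_inter, Finset.mem_sdiff] at h h'; exact h.2.2 h'.2
  have hd3 : Disjoint ((O ∩ near3) ∪ (O ∩ near27)) (O ∩ near81) := Finset.disjoint_left.2 fun y h h' => by
    have h8 : y ∈ near81 := (Finset.mem_inter.1 h').2
    have h30 : y ∈ near30 := by
      rcases Finset.mem_union.1 h with h | h
      · exact (Finset.mem_sdiff.1 (Finset.mem_inter.1 h).2).1
      · exact near27_facts.2 (Finset.mem_inter.1 h).2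
    simp only [near81, near30, Finset.mem_filter] at h8 h30
    exact h8.2.2.2 h30.2.2
  have hn1 : q1 ∉ (O ∩ near3) ∪ (O ∩ near27) ∪ (O ∩ near81) := by
    intro h
    simp only [Finset.mem_union, Finset.mem_inter] at h
    rcases h with (⟨-, h⟩ | ⟨-, h⟩) | ⟨-, h⟩
    · exact adj_irrefl _ ((Finset.mem_filter.1 (Finset.mem_sdiff.1 h).1).2.2)
    · exact adj_irrefl _ ((Finset.mem_filter.1 (near27_facts.2 h)).2.2)
    · exact (Finset.mem_filter.1 h).2.2.1 rfl
  have hcard : O.card = 1 + (O ∩ near3).card + (O ∩ near27).card + (O ∩ near81).card := by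
    conv_lhs => rw [hsplit]
    rw [Finset.card_insert_of_notMem hn1, Finset.card_union_of_disjoint hd3, Finset.card_union_of_disjoint hd12]
    omega
  have hOsmall : O.card = 1 ∨ (O.card = 4 ∧ O ∩ near3 = near3) := by
    rcases hclass near3 (Or.inl rfl) with a | a <;> rcases hclass near27 (Or.inr (Or.inl rfl)) with b | b <;>
      rcases hclass near81 (Or.inr (Or.inr rfl)) with c | c <;>
      rw [a, b, c] at hcard <;>
      simp only [Finset.card_empty, near3_card, near27_facts.1, near81_card] at hcard <;>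
      rw [hcard] at hdvd <;> first | (left; omega) | (right; exact ⟨by omega, a⟩) | (norm_num at hdvd)
  have h4 : O.card ≠ 4 := by
    intro h4
    have ha : O ∩ near3 = near3 := by
      rcases hOsmall with h | h
      · omega
      · exact h.2
    have hstab : Nat.card (MulAction.stabilizer H' q1) = 7290 := by
      have h := (MulAction.stabilizer H' q1).index_mul_card
      rw [MulAction.index_stabilizer, ← hOcard, h4, hH'] at h
      omega
    obtain ⟨x, hx⟩ := exists_prime_orderOf_dvd_card' (G := MulAction.stabilizer H' q1) 5 (by rw [hstab]; norm_num)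
    let y : Equiv.Perm (Fin 275) := x.1.1
    have hyH : y ∈ H' := x.1.2
    have hy1 : y q1 = q1 := x.2
    have hy5 : y ^ 5 = 1 := by
      have := pow_orderOf_eq_one x
      rw [hx] at this
      have h2 := congrArg (fun z : MulAction.stabilizer H' q1 => (z.1.1 : Equiv.Perm (Fin 275))) this
      simpa using h2
    have hyne : y ≠ 1 := by
      intro e
      have : x = 1 := Subtype.ext (Subtype.ext e)
      rw [this, orderOf_one] at hx
      norm_num at hx
    obtain ⟨m, hm⟩ := Finset.card_pos.1 (show 0 < near3.card by rw [near3_card]; norm_num)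
    have hmO : m ∈ O := (Finset.mem_inter.1 (ha.symm ▸ hm : m ∈ O ∩ near3)).1
    have hinv : ∀ n : ℕ, (y ^ n) m ∈ O := fun n => by
      obtain ⟨σ, hσ, e⟩ := (Finset.mem_filter.1 hmO).2
      exact Finset.mem_filter.2 ⟨Finset.mem_univ _, y ^ n * σ, mul_mem (pow_mem hyH n) hσ, by
        rw [Equiv.Perm.mul_apply, e]⟩
    have hfix : y m = m := by
      by_contra hne
      have hz : Function.minimalPeriod y m = 5 := by
        have hd : Function.minimalPeriod y m ∣ 5 := Function.IsPeriodicPt.minimalPeriod_dvd (by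
          show y^[5] m = m
          rw [← Equiv.Perm.coe_pow, hy5]; rfl)
        rcases (Nat.dvd_prime (by norm_num : Nat.Prime 5)).1 hd with h | h
        · exact absurd (Function.minimalPeriod_eq_one_iff_isFixedPt.1 h) hne
        · exact h
      have hinj : Set.InjOn (fun n : ℕ => (y ^ n) m) (Finset.range 5 : Finset ℕ) := by
        intro u hu v hv e
        simp only [Finset.coe_range, Set.mem_Iio] at hu hv
        simp only [Equiv.Perm.coe_pow] at e
        exact Function.iterate_injOn_Iio_minimalPeriod (by rw [hz]; exact hu) (by rw [hz]; exact hv) e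
      have := Finset.card_le_card_of_injOn _ (fun n _ => hinv n) hinj
      rw [Finset.card_range, h4] at this
      omega
    have h972 : Nat.card ↥(KG ⊓ MulAction.stabilizer (Equiv.Perm (Fin 275)) q1 ⊓
        MulAction.stabilizer (Equiv.Perm (Fin 275)) m : Subgroup (Equiv.Perm (Fin 275))) = 972 := by
      set S1 := KG ⊓ MulAction.stabilizer (Equiv.Perm (Fin 275)) q1 with hS1
      have o1c : (MulAction.orbit KG q1).ncard = 112 := by
        rw [← qFin_card, ← Set.ncard_coe_finset]
        congr 1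
        ext z
        simp only [qFin, Finset.coe_filter, Finset.mem_univ, true_and]
        exact ⟨fun ⟨σ, e⟩ => e ▸ (aut_fix_zero (kg_mem_autG σ.2) (kgrp_fix_zero σ.2) q1).1.2
            (by unfold QPt q1; decide),
          fun hz => by obtain ⟨σ, hσ, e⟩ := trans_Q z hz; exact ⟨⟨σ, hσ⟩, e⟩⟩
      have c1 : Nat.card S1 = 29160 := by
        have h := (MulAction.stabilizer KG q1).index_mul_card
        rw [MulAction.index_stabilizer, o1c, hK] at h
        rw [← Subgroup.card_map_of_injective (K := MulAction.stabilizer KG q1) (KG).subtype_injective] at h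
        have e : (MulAction.stabilizer KG q1).map (KG).subtype = S1 := by
          ext σ
          constructor
          · rintro ⟨τ, hτ, rfl⟩; exact ⟨τ.2, hτ⟩
          · rintro ⟨h1, h2⟩; exact ⟨⟨σ, h1⟩, h2, rfl⟩
        rw [e] at h
        omega
      have hm30 : m ∈ near30 := (Finset.mem_sdiff.1 hm).1
      have omc : (MulAction.orbit S1 m).ncard = 30 := by
        let U : Finset (Fin 275) := Finset.univ.filter fun z => ∃ σ ∈ S1, σ m = z
        have hU : U ⊆ near30 := fun z hz => by
          obtain ⟨σ, hσ, rfl⟩ := (Finset.mem_filter.1 hz).2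
          exact (near30_inv hσ.1 hσ.2 m).1.2 hm30
        have hUeq : U = near30 := by
          rcases near_union U (fun σ hσ h1 z hz => by
            obtain ⟨τ, hτ, rfl⟩ := (Finset.mem_filter.1 hz).2
            exact Finset.mem_filter.2 ⟨Finset.mem_univ _, σ * τ, mul_mem ⟨hσ, h1⟩ hτ, rfl⟩)
            (fun z hz => ⟨(Finset.mem_filter.1 (hU hz)).2.1, fun e => adj_irrefl q1
              (e ▸ (Finset.mem_filter.1 (hU hz)).2.2)⟩) with h | h | h | h
          · have : m ∈ U := Finset.mem_filter.2 ⟨Finset.mem_univ _, 1, one_mem _, rfl⟩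
            rw [h] at this; simp at this
          · exact h
          all_goals
            exfalso
            have := Finset.card_le_card hU
            have h81 : near81.card ≤ U.card := Finset.card_le_card (by rw [h]; all_goals first | exact subset_rfl | exact Finset.subset_union_right)
            rw [near81_card] at h81
            rw [near30_card] at this
            omega
        rw [← near30_card, ← hUeq, ← Set.ncard_coe_finset]
        congr 1
        ext z
        simp only [U, Finset.coe_filter, Finset.mem_univ, true_and]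
        exact ⟨fun ⟨σ, e⟩ => ⟨σ.1, σ.2, e⟩, fun ⟨σ, hσ, e⟩ => ⟨⟨σ, hσ⟩, e⟩⟩
      have h := (MulAction.stabilizer S1 m).index_mul_card
      rw [MulAction.index_stabilizer, omc, c1, ← Subgroup.card_map_of_injective (K := MulAction.stabilizer S1 m)
        S1.subtype_injective] at h
      have e : (MulAction.stabilizer S1 m).map S1.subtype = S1 ⊓ MulAction.stabilizer _ m := by
        ext σ
        constructor
        · rintro ⟨τ, hτ, rfl⟩; exact ⟨τ.2, hτ⟩
        · rintro ⟨h1, h2⟩; exact ⟨⟨σ, h1⟩, h2, rfl⟩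
      rw [e] at h
      omega
    have hmem : y ∈ KG ⊓ MulAction.stabilizer (Equiv.Perm (Fin 275)) q1 ⊓
        MulAction.stabilizer (Equiv.Perm (Fin 275)) m := ⟨⟨hH'K hyH, hy1⟩, hfix⟩
    have hd := Subgroup.orderOf_dvd_natCard _ hmem
    rw [h972, orderOf_eq_prime hy5 hyne] at hd
    norm_num at hd
  have hO1 : O = {q1} := by
    have h1 : O.card = 1 := by
      rcases hOsmall with h | h
      · exact h
      · exact absurd h.1 h4
    obtain ⟨z, hz⟩ := Finset.card_eq_one.1 h1
    rw [hz] at hq1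
    rw [hz, Finset.mem_singleton.1 hq1]
  refine ⟨(k : Equiv.Perm (Fin 275)) q1,
    (aut_fix_zero (kg_mem_autG k.2) (kgrp_fix_zero k.2) q1).1.2 (by unfold QPt q1; decide), fun h hh => ?_⟩
  have hmem : ((k⁻¹ * h * k : ↥KG) : Equiv.Perm (Fin 275)) ∈ H' :=
    ⟨_, ⟨h, hh, by show k⁻¹ * h * (k⁻¹)⁻¹ = _; rw [inv_inv]⟩, rfl⟩
  have : ((k⁻¹ * h * k : ↥KG) : Equiv.Perm (Fin 275)) q1 ∈ O := Finset.mem_filter.2 ⟨Finset.mem_univ _, _, hmem, rfl⟩
  rw [hO1, Finset.mem_singleton, Subgroup.coe_mul, Subgroup.coe_mul, Subgroup.coe_inv, Equiv.Perm.mul_apply,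
    Equiv.Perm.mul_apply, Equiv.Perm.inv_def, Equiv.symm_apply_eq] at this
  exact this

end CfsgLib.McLRec
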