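import Cfsg.Agent.Lib.McLRec.Rank

/-!
# The orbit of length 112 and the parameters of the graph
-/

set_option autoImplicit false
set_option maxRecDepth 100000
set_option linter.unusedSectionVars false

open scoped Classical

namespace CfsgLib.McLRec

open CfsgLib.LeechPSU

local notation "KG" => permGroup 275 [code0, code1]

variable {Ω : Type*} [Fintype Ω] [DecidableEq Ω] {G : Subgroup (Equiv.Perm Ω)} {a b c : Ω}

/-- A matching of the near orbit with the near points of the model. -/
structure NearMap (G : Subgroup (Equiv.Perm Ω)) (a b : Ω) where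
  /-- The map of the stabilisers. -/
  θ : MulAction.stabilizer G a ≃* ↥KG
  /-- The map of the near points. -/
  ψ : Ω → Fin 275
  maps : ∀ y ∈ orbFin G a b, QPt (ψ y)
  inj : ∀ y ∈ orbFin G a b, ∀ z ∈ orbFin G a b, ψ y = ψ z → y = z
  surj : ∀ w, QPt w → ∃ y ∈ orbFin G a b, ψ y = w
  eqv : ∀ (s : MulAction.stabilizer G a), ∀ y ∈ orbFin G a b, ψ (s • y) = (θ s : Equiv.Perm (Fin 275)) (ψ y)
  adj : ∀ y ∈ orbFin G a b, ∀ z ∈ orbFin G a b, Rel G a b y z ↔ Adj (ψ y) (ψ z)

/-- The parameters of the graph. -/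
structure Params (G : Subgroup (Equiv.Perm Ω)) (a b c : Ω) : Prop where
  common : ∀ x y, Rel G a b x y → (nbrs G a b x ∩ nbrs G a b y).card = 30
  far_near : ∀ z ∈ orbFin G a c, (nbrs G a b z ∩ orbFin G a b).card = 56

theorem orbit_KG_q1 : (MulAction.orbit KG q1).ncard = 112 := by
  rw [← qFin_card, ← Set.ncard_coe_finset]
  congr 1
  ext z
  simp only [qFin, Finset.coe_filter, Finset.mem_univ, true_and]
  exact ⟨fun ⟨σ, e⟩ => e ▸ (aut_fix_zero (kg_mem_autG σ.2) (kgrp_fix_zero σ.2) q1).1.2 (by unfold QPt q1; decide),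
    fun hz => by obtain ⟨σ, hσ, e⟩ := trans_Q z hz; exact ⟨⟨σ, hσ⟩, e⟩⟩

variable (h : RankThree G a b c)
include h

/-- The stabiliser of a near point goes to the stabiliser of a near point of the model. -/
theorem exists_near_iso (θ₀ : MulAction.stabilizer G a ≃* ↥KG) :
    ∃ θ : MulAction.stabilizer G a ≃* ↥KG,
      ∀ s : MulAction.stabilizer G a, s • b = b → (θ s : Equiv.Perm (Fin 275)) q1 = q1 := by
  have hK : Nat.card ↥KG = 3265920 := card_Kgrp
  let H : Subgroup ↥KG := (MulAction.stabilizer (MulAction.stabilizer G a) b).map θ₀.toMonoidHom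
  have hH : Nat.card H = 29160 := by
    have hi := (MulAction.stabilizer (MulAction.stabilizer G a) b).index_mul_card
    rw [MulAction.index_stabilizer, h.card_near, Nat.card_congr θ₀.toEquiv, hK] at hi
    show Nat.card ((MulAction.stabilizer (MulAction.stabilizer G a) b).map θ₀.toMonoidHom) = _
    rw [Subgroup.card_map_of_injective θ₀.injective]
    omega
  obtain ⟨y, hy, hfix⟩ := exists_fixed hK H hH
  obtain ⟨k, hk, e⟩ := trans_Q y hy
  refine ⟨θ₀.trans (MulAut.conj (⟨k, hk⟩ : ↥KG)⁻¹), fun s hs => ?_⟩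
  have hf := hfix (θ₀ s) ⟨s, hs, rfl⟩
  show ((((⟨k, hk⟩ : ↥KG)⁻¹ * θ₀ s * (⟨k, hk⟩⁻¹)⁻¹ : ↥KG)) : Equiv.Perm (Fin 275)) q1 = q1
  rw [inv_inv, Subgroup.coe_mul, Subgroup.coe_mul, Subgroup.coe_inv, Equiv.Perm.mul_apply, Equiv.Perm.mul_apply]
  show k.symm ((θ₀ s : Equiv.Perm (Fin 275)) (k q1)) = q1
  rw [e, hf, ← e, Equiv.symm_apply_apply]

/-- The near orbit is the near set of the model, as a set acted on. -/
theorem exists_near_map (θ : MulAction.stabilizer G a ≃* ↥KG)
    (hθ : ∀ s : MulAction.stabilizer G a, s • b = b → (θ s : Equiv.Perm (Fin 275)) q1 = q1) :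
    ∃ ψ : Ω → Fin 275, ψ b = q1 ∧ (∀ y ∈ orbFin G a b, QPt (ψ y)) ∧
      (∀ y ∈ orbFin G a b, ∀ z ∈ orbFin G a b, ψ y = ψ z → y = z) ∧
      (∀ w, QPt w → ∃ y ∈ orbFin G a b, ψ y = w) ∧
      ∀ (s : MulAction.stabilizer G a), ∀ y ∈ orbFin G a b,
        ψ (s • y) = (θ s : Equiv.Perm (Fin 275)) (ψ y) := by
  let ψ : Ω → Fin 275 := fun y =>
    if hy : ∃ s : MulAction.stabilizer G a, s • b = y then (θ hy.choose : Equiv.Perm (Fin 275)) q1 else 0
  have hval : ∀ s : MulAction.stabilizer G a, ψ (s • b) = (θ s : Equiv.Perm (Fin 275)) q1 := by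
    intro s
    have hex : ∃ t : MulAction.stabilizer G a, t • b = s • b := ⟨s, rfl⟩
    simp only [ψ, dif_pos hex]
    have h1 := hθ (s⁻¹ * hex.choose) (by rw [mul_smul, hex.choose_spec, inv_smul_smul])
    rw [map_mul, map_inv, Subgroup.coe_mul, Subgroup.coe_inv, Equiv.Perm.mul_apply, Equiv.Perm.inv_def,
      Equiv.symm_apply_eq] at h1
    exact h1
  have hq : QPt q1 := by unfold QPt q1; decide
  have hmaps : ∀ y ∈ orbFin G a b, QPt (ψ y) := fun y hy => by
    obtain ⟨s, rfl⟩ := mem_orbFin.1 hy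
    rw [hval]
    exact (aut_fix_zero (kg_mem_autG (θ s).2) (kgrp_fix_zero (θ s).2) q1).1.2 hq
  have hsurj : ∀ w, QPt w → ∃ y ∈ orbFin G a b, ψ y = w := fun w hw => by
    obtain ⟨σ, hσ, rfl⟩ := trans_Q w hw
    refine ⟨θ.symm ⟨σ, hσ⟩ • b, smul_mem_orbFin _ (self_mem_orbFin b), ?_⟩
    rw [hval, MulEquiv.apply_symm_apply]
  have himg : (orbFin G a b).image ψ = qFin := by
    ext w
    simp only [Finset.mem_image, qFin, Finset.mem_filter, Finset.mem_univ, true_and]
    exact ⟨fun ⟨y, hy, e⟩ => e ▸ hmaps y hy, hsurj w⟩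
  refine ⟨ψ, ?_, hmaps, ?_, hsurj, fun s y hy => ?_⟩
  · have := hval 1
    rwa [one_smul, map_one] at this
  · intro y hy z hz
    exact Finset.injOn_of_card_image_eq (by rw [himg, qFin_card, orbFin_card, h.card_near]) hy hz
  · obtain ⟨t, rfl⟩ := mem_orbFin.1 hy
    rw [← mul_smul, hval, hval, map_mul, Subgroup.coe_mul, Equiv.Perm.mul_apply]

/-- The number of edges from the near orbit to the far one. -/
theorem double_count : 162 * (nbrs G a b c ∩ orbFin G a b).card =
    112 * (111 - (nbrs G a b b ∩ orbFin G a b).card) ∧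
    (∀ z ∈ orbFin G a c, (nbrs G a b z ∩ orbFin G a b).card = (nbrs G a b c ∩ orbFin G a b).card) ∧
    (nbrs G a b b ∩ orbFin G a b).card ≤ 111 := by
  have hstab : ∀ (u x : Ω) (s : MulAction.stabilizer G a),
      (nbrs G a b (s • x) ∩ orbFin G a u).card = (nbrs G a b x ∩ orbFin G a u).card := by
    intro u x s
    have : nbrs G a b (s • x) ∩ orbFin G a u = (nbrs G a b x ∩ orbFin G a u).image (s • ·) := by
      ext y
      simp only [Finset.mem_inter, Finset.mem_image, mem_nbrs]
      constructor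
      · exact fun hy => ⟨s⁻¹ • y, ⟨(rel_smul_stab s _ _).1 (by rw [smul_inv_smul]; exact hy.1),
          smul_mem_orbFin _ hy.2⟩, smul_inv_smul s y⟩
      · rintro ⟨z, hz, rfl⟩
        exact ⟨(rel_smul_stab s _ _).2 hz.1, smul_mem_orbFin s hz.2⟩
    rw [this, Finset.card_image_of_injective _ (MulAction.injective s)]
  have hfar : ∀ z ∈ orbFin G a c, (nbrs G a b z ∩ orbFin G a b).card = (nbrs G a b c ∩ orbFin G a b).card := by
    intro z hz
    obtain ⟨s, rfl⟩ := mem_orbFin.1 hz
    exact hstab b c s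
  have hone : ∀ y ∈ orbFin G a b, (nbrs G a b y ∩ orbFin G a c).card =
      111 - (nbrs G a b b ∩ orbFin G a b).card ∧ (nbrs G a b b ∩ orbFin G a b).card ≤ 111 := by
    intro y hy
    obtain ⟨s, rfl⟩ := mem_orbFin.1 hy
    have h1 := card_nbrs_split h (s • b)
    rw [hstab b b s] at h1
    have ha : nbrs G a b (s • b) ∩ {a} = {a} := by
      refine Finset.inter_eq_right.2 (Finset.singleton_subset_iff.2 (mem_nbrs.2 ((rel_comm h _ _).1 ?_)))
      exact (rel_base_iff _).2 (smul_mem_orbFin s (self_mem_orbFin b))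
    rw [ha, Finset.card_singleton] at h1
    omega
  refine ⟨?_, hfar, (hone b (self_mem_orbFin b)).2⟩
  have hsum : ∑ y ∈ orbFin G a b, ((orbFin G a c).filter fun z => Rel G a b y z).card =
      ∑ z ∈ orbFin G a c, ((orbFin G a b).filter fun y => Rel G a b y z).card :=
    Finset.sum_card_bipartiteAbove_eq_sum_card_bipartiteBelow (r := Rel G a b)
  have e1 : ∀ y ∈ orbFin G a b, ((orbFin G a c).filter fun z => Rel G a b y z).card =
      111 - (nbrs G a b b ∩ orbFin G a b).card := by
    intro y hy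
    rw [← (hone y hy).1]
    congr 1
    ext z
    simp [mem_nbrs, and_comm]
  have e2 : ∀ z ∈ orbFin G a c, ((orbFin G a b).filter fun y => Rel G a b y z).card =
      (nbrs G a b c ∩ orbFin G a b).card := by
    intro z hz
    rw [← hfar z hz]
    congr 1
    ext y
    simp [mem_nbrs, and_comm, rel_comm h y z]
  rw [Finset.sum_congr rfl e1, Finset.sum_congr rfl e2, Finset.sum_const, Finset.sum_const, orbFin_card,
    orbFin_card, h.card_near, h.card_far, smul_eq_mul, smul_eq_mul] at hsum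
  exact hsum.symm

theorem exists_near (θ₀ : MulAction.stabilizer G a ≃* ↥KG) :
    Nonempty (NearMap G a b) ∧ Params G a b c := by
  obtain ⟨θ, hθ⟩ := exists_near_iso h θ₀
  obtain ⟨ψ, hψb, hmaps, hinj, hsurj, heqv⟩ := exists_near_map h θ hθ
  let T : Finset (Fin 275) := (nbrs G a b b ∩ orbFin G a b).image ψ
  have hTcard : T.card = (nbrs G a b b ∩ orbFin G a b).card :=
    Finset.card_image_of_injOn fun y hy z hz e =>
      hinj y (Finset.mem_inter.1 hy).2 z (Finset.mem_inter.1 hz).2 e
  have hTinv : ∀ σ ∈ KG, σ q1 = q1 → ∀ y ∈ T, σ y ∈ T := by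
    intro σ hσ h1 w hw
    obtain ⟨z, hz, rfl⟩ := Finset.mem_image.1 hw
    obtain ⟨hz1, hz2⟩ := Finset.mem_inter.1 hz
    obtain ⟨s, hs⟩ := θ.surjective ⟨σ, hσ⟩
    have hσs : (θ s : Equiv.Perm (Fin 275)) = σ := congrArg Subtype.val hs
    have hsb : s • b = b := by
      refine hinj _ (smul_mem_orbFin s (self_mem_orbFin b)) b (self_mem_orbFin b) ?_
      rw [heqv s b (self_mem_orbFin b), hψb, hσs, h1]
    refine Finset.mem_image.2 ⟨s • z, Finset.mem_inter.2 ⟨mem_nbrs.2 ?_, smul_mem_orbFin s hz2⟩, ?_⟩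
    · have := (rel_smul_stab s _ _).2 (mem_nbrs.1 hz1)
      rwa [hsb] at this
    · rw [heqv s z hz2, hσs]
  have hTsub : ∀ y ∈ T, QPt y ∧ y ≠ q1 := by
    intro w hw
    obtain ⟨z, hz, rfl⟩ := Finset.mem_image.1 hw
    obtain ⟨hz1, hz2⟩ := Finset.mem_inter.1 hz
    refine ⟨hmaps z hz2, fun e => rel_irrefl h b ?_⟩
    have hb' := mem_nbrs.1 hz1
    rwa [hinj z hz2 b (self_mem_orbFin b) (e.trans hψb.symm)] at hb'
  obtain ⟨hcount, hfar, hle⟩ := double_count h
  set l := (nbrs G a b b ∩ orbFin G a b).card with hl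
  set m := (nbrs G a b c ∩ orbFin G a b).card with hm
  have hl30 : T = near30 ∧ l = 30 := by
    rcases near_union T hTinv hTsub with e | e | e | e
    · rw [e, Finset.card_empty] at hTcard; omega
    · exact ⟨e, by rw [← hTcard, e, near30_card]⟩
    · rw [e, near81_card] at hTcard; omega
    · -- then the near orbit is complete and the far orbit falls into disjoint cliques
      exfalso
      have hd : Disjoint near30 near81 := Finset.disjoint_left.2 fun y h1 h2 => by
        simp only [near30, near81, Finset.mem_filter] at h1 h2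
        exact h2.2.2.2 h1.2.2
      rw [e, Finset.card_union_of_disjoint hd, near30_card, near81_card] at hTcard
      have hm0 : m = 0 := by omega
      have hfull : ∀ y ∈ orbFin G a b, ∀ z ∈ orbFin G a b, y ≠ z → Rel G a b y z := by
        intro y hy z hz hne
        obtain ⟨s, rfl⟩ := mem_orbFin.1 hy
        have hz' : s⁻¹ • z ∈ orbFin G a b := smul_mem_orbFin _ hz
        have : nbrs G a b b ∩ orbFin G a b = (orbFin G a b).erase b := by
          refine Finset.eq_of_subset_of_card_le (fun w hw => Finset.mem_erase.2 ⟨?_, (Finset.mem_inter.1 hw).2⟩) ?_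
          · rintro rfl; exact rel_irrefl h w (mem_nbrs.1 (Finset.mem_inter.1 hw).1)
          · rw [Finset.card_erase_of_mem (self_mem_orbFin b), orbFin_card, h.card_near]; omega
        have hmem : s⁻¹ • z ∈ (orbFin G a b).erase b :=
          Finset.mem_erase.2 ⟨fun e => hne (by rw [← e, smul_inv_smul]), hz'⟩
        rw [← this, Finset.mem_inter, mem_nbrs] at hmem
        have := (rel_smul_stab s _ _).2 hmem.1
        rwa [smul_inv_smul] at this
      have htri : ∀ x y z, Rel G a b x y → Rel G a b x z → y ≠ z → Rel G a b y z := by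
        intro x y z hy hz hne
        obtain ⟨g, rfl⟩ := h.trans x
        have hy' := (rel_base_iff (g⁻¹ • y)).1 ((rel_smul g a (g⁻¹ • y)).1 (by rwa [smul_inv_smul]))
        have hz' := (rel_base_iff (g⁻¹ • z)).1 ((rel_smul g a (g⁻¹ • z)).1 (by rwa [smul_inv_smul]))
        have := (rel_smul g _ _).2 (hfull _ hy' _ hz' fun e => hne (by simpa using congrArg (g • ·) e))
        rwa [smul_inv_smul, smul_inv_smul] at this
      have hsubC : ∀ z ∈ orbFin G a c, nbrs G a b z ⊆ orbFin G a c := by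
        intro z hz w hw
        rcases cases_point h w with rfl | h1 | h1
        · exfalso
          have := (rel_base_iff z).1 ((rel_comm h _ _).1 (mem_nbrs.1 hw))
          exact Finset.disjoint_left.1 (orbits_disjoint h) this hz
        · exfalso
          have h0 := hfar z hz
          rw [hm0, Finset.card_eq_zero] at h0
          exact Finset.eq_empty_iff_forall_notMem.1 h0 w (Finset.mem_inter.2 ⟨hw, h1⟩)
        · exact h1
      have hall : (orbFin G a c).erase c ⊆ nbrs G a b c := by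
        intro z hz
        obtain ⟨hzc, hz⟩ := Finset.mem_erase.1 hz
        have hint : ∃ w ∈ nbrs G a b c, w ∈ nbrs G a b z := by
          by_contra hno
          push Not at hno
          have hd : Disjoint (nbrs G a b c) (nbrs G a b z) := Finset.disjoint_left.2 hno
          have := Finset.card_le_card (Finset.union_subset (hsubC c (self_mem_orbFin c)) (hsubC z hz))
          rw [Finset.card_union_of_disjoint hd, card_nbrs h, card_nbrs h, orbFin_card, h.card_far] at this
          omega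
        obtain ⟨w, hw1, hw2⟩ := hint
        rw [mem_nbrs] at hw1 hw2 ⊢
        exact htri w c z ((rel_comm h _ _).1 hw1) ((rel_comm h _ _).1 hw2) (Ne.symm hzc)
      have := Finset.card_le_card hall
      rw [Finset.card_erase_of_mem (self_mem_orbFin c), card_nbrs h, orbFin_card, h.card_far] at this
      omega
  have hadj : ∀ y ∈ orbFin G a b, ∀ z ∈ orbFin G a b, Rel G a b y z ↔ Adj (ψ y) (ψ z) := by
    intro y hy z hz
    obtain ⟨s, rfl⟩ := mem_orbFin.1 hy
    obtain ⟨w, hw, rfl⟩ : ∃ w ∈ orbFin G a b, s • w = z := ⟨s⁻¹ • z, smul_mem_orbFin _ hz, smul_inv_smul s z⟩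
    rw [rel_smul_stab, heqv s b (self_mem_orbFin b), heqv s w hw, hψb, mem_autG (kg_mem_autG (θ s).2)]
    constructor
    · intro hr
      have : ψ w ∈ T := Finset.mem_image.2 ⟨w, Finset.mem_inter.2 ⟨mem_nbrs.2 hr, hw⟩, rfl⟩
      rw [hl30.1] at this
      exact (Finset.mem_filter.1 this).2.2
    · intro ha
      have : ψ w ∈ T := by rw [hl30.1]; exact Finset.mem_filter.2 ⟨Finset.mem_univ _, hmaps w hw, ha⟩
      obtain ⟨u, hu, e⟩ := Finset.mem_image.1 this
      obtain ⟨hu1, hu2⟩ := Finset.mem_inter.1 hu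
      rw [← hinj u hu2 w hw e]
      exact mem_nbrs.1 hu1
  refine ⟨⟨⟨θ, ψ, hmaps, hinj, hsurj, heqv, hadj⟩⟩, fun x y hxy => ?_, fun z hz => by rw [hfar z hz]; omega⟩
  obtain ⟨g, rfl, rfl⟩ := hxy
  rw [common_smul, nbrs_base, Finset.inter_comm]
  exact hl30.2

end CfsgLib.McLRec
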