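import Cfsg.Agent.Lib.McLRec.Graph

/-!
# The orbits of the group at the base point and of some stabilisers
-/

set_option autoImplicit false
set_option maxRecDepth 100000

namespace CfsgLib.McLRec

open CfsgLib.LeechPSU

/-- The group at the base point. -/
local notation "KG" => permGroup 275 [code0, code1]

/-- The near points. -/
def qFin : Finset (Fin 275) := Finset.univ.filter QPt

/-- The far points. -/
def oFin : Finset (Fin 275) := Finset.univ.filter OPt

theorem qFin_card : qFin.card = 112 := by decide +kernel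

theorem oFin_card : oFin.card = 162 := by decide +kernel

/-- The first near point. -/
def q1 : Fin 275 := 1

/-- The first far point. -/
def o1 : Fin 275 := 113

/-- The near points joined to the first one. -/
noncomputable def near30 : Finset (Fin 275) := Finset.univ.filter fun y => QPt y ∧ Adj q1 y

/-- The near points not joined to the first one. -/
noncomputable def near81 : Finset (Fin 275) := Finset.univ.filter fun y => QPt y ∧ y ≠ q1 ∧ ¬ Adj q1 y

/-- The far points joined to the first one. -/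
noncomputable def far56 : Finset (Fin 275) := Finset.univ.filter fun y => OPt y ∧ Adj o1 y

/-- The far points not joined to the first one. -/
noncomputable def far105 : Finset (Fin 275) := Finset.univ.filter fun y => OPt y ∧ y ≠ o1 ∧ ¬ Adj o1 y

/-- The cards of the classes. -/
noncomputable def classB : Bool :=
  Nat.beq ((List.range 275).countP fun y => decide (1 ≤ y ∧ y ≤ 112) && adjB 1 y) 30 &&
  Nat.beq ((List.range 275).countP fun y => decide (113 ≤ y) && adjB 113 y) 56

theorem class_ok : classB = true := by decide +kernel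

theorem countP_eq_card (p : ℕ → Bool) :
    (List.range 275).countP p = (Finset.univ.filter fun y : Fin 275 => p y.val = true).card := by
  rw [List.countP_eq_length_filter, ← List.toFinset_card_of_nodup (List.nodup_range.filter _)]
  refine (Finset.card_nbij (fun x : Fin 275 => x.val) (fun x hx => ?_) (fun a _ b _ e => Fin.ext e)
    (fun x hx => ?_)).symm
  · simp only [Finset.coe_filter, Finset.mem_univ, true_and, Set.mem_setOf_eq] at hx
    simp only [List.coe_toFinset, Set.mem_setOf_eq, List.mem_filter, List.mem_range]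
    exact ⟨x.isLt, hx⟩
  · simp only [List.coe_toFinset, Set.mem_setOf_eq, List.mem_filter, List.mem_range] at hx
    exact ⟨⟨x, hx.1⟩, by simpa using hx.2, rfl⟩

theorem near30_card : near30.card = 30 := by
  have h := class_ok
  simp only [classB, Bool.and_eq_true, Nat.beq_eq] at h
  have h1 := h.1
  rw [countP_eq_card] at h1
  rw [← h1, near30]
  refine congrArg _ (Finset.filter_congr fun y _ => ?_)
  simp only [Bool.and_eq_true, decide_eq_true_eq]
  rfl

theorem far56_card : far56.card = 56 := by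
  have h := class_ok
  simp only [classB, Bool.and_eq_true, Nat.beq_eq] at h
  have h1 := h.2
  rw [countP_eq_card] at h1
  rw [← h1, far56]
  refine congrArg _ (Finset.filter_congr fun y _ => ?_)
  simp only [Bool.and_eq_true, decide_eq_true_eq]
  rfl

theorem near81_card : near81.card = 81 := by
  have e : qFin = insert q1 (near30 ∪ near81) := by
    ext y
    simp only [qFin, near30, near81, Finset.mem_insert, Finset.mem_union, Finset.mem_filter, Finset.mem_univ,
      true_and]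
    constructor
    · intro hy; by_cases h : y = q1 <;> by_cases h' : Adj q1 y <;> tauto
    · rintro (rfl | h | h)
      · unfold QPt q1; decide
      · exact h.1
      · exact h.1
  have hd : Disjoint near30 near81 := Finset.disjoint_left.2 fun y h h' => by
    simp only [near30, near81, Finset.mem_filter] at h h'
    exact h'.2.2.2 h.2.2
  have hn : q1 ∉ near30 ∪ near81 := by
    simp only [near30, near81, Finset.mem_union, Finset.mem_filter]
    rintro (h | h)
    · exact adj_irrefl _ h.2.2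
    · exact h.2.2.1 rfl
  have := qFin_card
  rw [e, Finset.card_insert_of_notMem hn, Finset.card_union_of_disjoint hd, near30_card] at this
  omega

theorem far105_card : far105.card = 105 := by
  have e : oFin = insert o1 (far56 ∪ far105) := by
    ext y
    simp only [oFin, far56, far105, Finset.mem_insert, Finset.mem_union, Finset.mem_filter, Finset.mem_univ,
      true_and]
    constructor
    · intro hy; by_cases h : y = o1 <;> by_cases h' : Adj o1 y <;> tauto
    · rintro (rfl | h | h)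
      · unfold OPt o1; decide
      · exact h.1
      · exact h.1
  have hd : Disjoint far56 far105 := Finset.disjoint_left.2 fun y h h' => by
    simp only [far56, far105, Finset.mem_filter] at h h'
    exact h'.2.2.2 h.2.2
  have hn : o1 ∉ far56 ∪ far105 := by
    simp only [far56, far105, Finset.mem_union, Finset.mem_filter]
    rintro (h | h)
    · exact adj_irrefl _ h.2.2
    · exact h.2.2.1 rfl
  have := oFin_card
  rw [e, Finset.card_insert_of_notMem hn, Finset.card_union_of_disjoint hd, far56_card] at this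
  omega

/-- The selected elements are in range and fix the given point. -/
noncomputable def selB (sel : List ℕ) (x : ℕ) : Bool :=
  sel.all fun i => decide (i < knownK.length) && Nat.beq (fieldAt (knownK.getD i 0) x) x

/-- The checks of the trees. -/
noncomputable def treesB : Bool :=
  treeOk 275 ([0, 1].map fun i => knownK.getD i 0) treeQ (2 ^ 1) && Nat.beq treeQ.length 111 &&
  treeOk 275 ([0, 1].map fun i => knownK.getD i 0) treeO (2 ^ 113) && Nat.beq treeO.length 161 &&
  selB [0, 1] 0 &&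
  selB gensOne 1 && treeOk 275 (gensOne.map fun i => knownK.getD i 0) tree30 (2 ^ root30) &&
  Nat.beq tree30.length 29 && decide (1 ≤ root30 ∧ root30 ≤ 112) && adjB 1 root30 &&
  treeOk 275 (gensOne.map fun i => knownK.getD i 0) tree81 (2 ^ root81) &&
  Nat.beq tree81.length 80 && decide (2 ≤ root81 ∧ root81 ≤ 112) && !adjB 1 root81 &&
  selB gensSet 113 && treeOk 275 (gensSet.map fun i => knownK.getD i 0) tree56 (2 ^ root56) &&
  Nat.beq tree56.length 55 && decide (113 ≤ root56 ∧ root56 < 275) && adjB 113 root56 &&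
  treeOk 275 (gensSet.map fun i => knownK.getD i 0) tree105 (2 ^ root105) &&
  Nat.beq tree105.length 104 && decide (114 ≤ root105 ∧ root105 < 275) && !adjB 113 root105

theorem trees_ok : treesB = true := by decide +kernel

theorem sel_gen {sel : List ℕ} {x : Fin 275} (h : selB sel x.val = true) :
    ∀ i ∈ sel, ∃ σ ∈ KG ⊓ MulAction.stabilizer (Equiv.Perm (Fin 275)) x,
      IsCode (knownK.getD i 0) σ := by
  intro i hi
  simp only [selB, List.all_eq_true, Bool.and_eq_true, decide_eq_true_eq, Nat.beq_eq] at h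
  obtain ⟨h1, h2⟩ := h i hi
  obtain ⟨σ, hσ, hc⟩ := exists_elem i h1
  exact ⟨σ, ⟨hσ, Fin.ext ((hc x).trans h2)⟩, hc⟩

theorem kg_mem_autG {σ : Equiv.Perm (Fin 275)} (h : σ ∈ KG) : σ ∈ autG := mgrp_le_autG (kgrp_le h)

theorem near30_inv {σ : Equiv.Perm (Fin 275)} (h : σ ∈ KG) (h1 : σ q1 = q1) (y : Fin 275) :
    (σ y ∈ near30 ↔ y ∈ near30) ∧ (σ y ∈ near81 ↔ y ∈ near81) := by
  have hq := (aut_fix_zero (kg_mem_autG h) (kgrp_fix_zero h) y).1
  have ha := mem_autG (kg_mem_autG h) q1 y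
  rw [h1] at ha
  have hne : σ y = q1 ↔ y = q1 := by
    constructor
    · intro e; rw [← h1] at e; exact σ.injective e
    · rintro rfl; exact h1
  simp only [near30, near81, Finset.mem_filter, Finset.mem_univ, true_and, hq, ha, ne_eq, hne, and_self]

theorem far56_inv {σ : Equiv.Perm (Fin 275)} (h : σ ∈ KG) (h1 : σ o1 = o1) (y : Fin 275) :
    (σ y ∈ far56 ↔ y ∈ far56) ∧ (σ y ∈ far105 ↔ y ∈ far105) := by
  have hq := (aut_fix_zero (kg_mem_autG h) (kgrp_fix_zero h) y).2
  have ha := mem_autG (kg_mem_autG h) o1 y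
  rw [h1] at ha
  have hne : σ y = o1 ↔ y = o1 := by
    constructor
    · intro e; rw [← h1] at e; exact σ.injective e
    · rintro rfl; exact h1
  simp only [far56, far105, Finset.mem_filter, Finset.mem_univ, true_and, hq, ha, ne_eq, hne, and_self]

theorem trans_Q (y : Fin 275) (hy : QPt y) : ∃ σ ∈ KG, σ q1 = y := by
  have h := trees_ok
  simp only [treesB, Bool.and_eq_true, Nat.beq_eq, decide_eq_true_eq] at h
  obtain ⟨⟨⟨⟨⟨⟨⟨⟨⟨⟨⟨⟨⟨⟨⟨⟨⟨⟨⟨⟨⟨⟨t1, l1⟩, -⟩, -⟩, sel⟩, -⟩, -⟩, -⟩, -⟩, -⟩, -⟩, -⟩, -⟩, -⟩, -⟩, -⟩, -⟩, -⟩, -⟩, -⟩, -⟩, -⟩, -⟩ := h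
  refine orbit_eq_of_tree _ [0, 1] q1 treeQ (fun i hi => ?_) t1 qFin (fun σ hσ => ?_) (by rw [qFin_card, l1]) y
    (Finset.mem_filter.2 ⟨Finset.mem_univ _, hy⟩)
  · obtain ⟨σ, hσ, hc⟩ := sel_gen (x := 0) sel i hi
    exact ⟨σ, hσ.1, hc⟩
  · exact Finset.mem_filter.2 ⟨Finset.mem_univ _,
      (aut_fix_zero (kg_mem_autG hσ) (kgrp_fix_zero hσ) q1).1.2 (by unfold QPt q1; decide)⟩

theorem trans_O (y : Fin 275) (hy : OPt y) : ∃ σ ∈ KG, σ o1 = y := by
  have h := trees_ok
  simp only [treesB, Bool.and_eq_true, Nat.beq_eq, decide_eq_true_eq] at h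
  obtain ⟨⟨⟨⟨⟨⟨⟨⟨⟨⟨⟨⟨⟨⟨⟨⟨⟨⟨⟨⟨⟨⟨-, -⟩, t2⟩, l2⟩, sel⟩, -⟩, -⟩, -⟩, -⟩, -⟩, -⟩, -⟩, -⟩, -⟩, -⟩, -⟩, -⟩, -⟩, -⟩, -⟩, -⟩, -⟩, -⟩ := h
  refine orbit_eq_of_tree _ [0, 1] o1 treeO (fun i hi => ?_) t2 oFin (fun σ hσ => ?_) (by rw [oFin_card, l2]) y
    (Finset.mem_filter.2 ⟨Finset.mem_univ _, hy⟩)
  · obtain ⟨σ, hσ, hc⟩ := sel_gen (x := 0) sel i hi
    exact ⟨σ, hσ.1, hc⟩
  · exact Finset.mem_filter.2 ⟨Finset.mem_univ _,
      (aut_fix_zero (kg_mem_autG hσ) (kgrp_fix_zero hσ) o1).2.2 (by unfold OPt o1; decide)⟩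

/-- A set of near points kept by the stabiliser of the first one is a union of the two classes. -/
theorem near_union (U : Finset (Fin 275)) (hU : ∀ σ ∈ KG, σ q1 = q1 → ∀ y ∈ U, σ y ∈ U)
    (hsub : ∀ y ∈ U, QPt y ∧ y ≠ q1) :
    (U = ∅ ∨ U = near30 ∨ U = near81 ∨ U = near30 ∪ near81) := by
  have h := trees_ok
  simp only [treesB, Bool.and_eq_true, Nat.beq_eq, decide_eq_true_eq, Bool.not_eq_true'] at h
  obtain ⟨⟨⟨⟨⟨⟨⟨⟨⟨⟨⟨⟨⟨⟨⟨⟨⟨⟨⟨⟨⟨⟨-, -⟩, -⟩, -⟩, -⟩, sel⟩, t30⟩, l30⟩, r30⟩, a30⟩, t81⟩, l81⟩, r81⟩, a81⟩, -⟩, -⟩, -⟩, -⟩, -⟩, -⟩, -⟩, -⟩, -⟩ := h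
  have whole : ∀ (C : Finset (Fin 275)) (root : Fin 275) (es : List (ℕ × ℕ)),
      treeOk 275 (gensOne.map fun i => knownK.getD i 0) es (2 ^ root.val) = true → root ∈ C →
      C.card = es.length + 1 → (∀ σ ∈ KG, σ q1 = q1 → ∀ y, σ y ∈ C ↔ y ∈ C) →
      ∀ y ∈ U, y ∈ C → C ⊆ U := by
    intro C root es ht hr hc hinv y hyU hyC z hz
    have key := orbit_eq_of_tree (KG ⊓ MulAction.stabilizer (Equiv.Perm (Fin 275)) q1) gensOne root es
      (sel_gen (x := q1) sel) ht C (fun σ hσ => (hinv σ hσ.1 hσ.2 root).2 hr) hc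
    obtain ⟨σ, hσ, e1⟩ := key y hyC
    obtain ⟨τ, hτ, e2⟩ := key z hz
    have := hU (τ * σ⁻¹) (mul_mem hτ.1 (inv_mem hσ.1)) ((mul_mem hτ (inv_mem hσ) :
      τ * σ⁻¹ ∈ KG ⊓ MulAction.stabilizer (Equiv.Perm (Fin 275)) q1).2) y hyU
    rwa [← e1, Equiv.Perm.mul_apply, Equiv.Perm.inv_def, Equiv.symm_apply_apply, e2] at this
  have w30 := whole near30 ⟨root30, by omega⟩ tree30 t30
    (Finset.mem_filter.2 ⟨Finset.mem_univ _, ⟨r30.1, r30.2⟩, a30⟩) (by rw [near30_card, l30])
    fun σ hσ h1 y => (near30_inv hσ h1 y).1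
  have w81 := whole near81 ⟨root81, by omega⟩ tree81 t81
    (Finset.mem_filter.2 ⟨Finset.mem_univ _, ⟨by simp only; omega, r81.2⟩,
      fun e => by have := congrArg Fin.val e; simp [q1] at this; omega, by
        intro (ha : adjB 1 root81 = true); rw [a81] at ha; simp at ha⟩)
    (by rw [near81_card, l81]) fun σ hσ h1 y => (near30_inv hσ h1 y).2
  have cover : ∀ y ∈ U, y ∈ near30 ∨ y ∈ near81 := fun y hy => by
    simp only [near30, near81, Finset.mem_filter, Finset.mem_univ, true_and]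
    by_cases h : Adj q1 y
    · exact Or.inl ⟨(hsub y hy).1, h⟩
    · exact Or.inr ⟨(hsub y hy).1, (hsub y hy).2, h⟩
  by_cases h3 : ∃ y ∈ U, y ∈ near30
  · obtain ⟨y, hy, hy3⟩ := h3
    by_cases h8 : ∃ z ∈ U, z ∈ near81
    · obtain ⟨z, hz, hz8⟩ := h8
      refine Or.inr (Or.inr (Or.inr (Finset.Subset.antisymm (fun u hu => Finset.mem_union.2 (cover u hu))
        (Finset.union_subset (w30 y hy hy3) (w81 z hz hz8)))))
    · refine Or.inr (Or.inl (Finset.Subset.antisymm (fun u hu => (cover u hu).resolve_right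
        fun hc => h8 ⟨u, hu, hc⟩) (w30 y hy hy3)))
  · by_cases h8 : ∃ z ∈ U, z ∈ near81
    · obtain ⟨z, hz, hz8⟩ := h8
      exact Or.inr (Or.inr (Or.inl (Finset.Subset.antisymm (fun u hu => (cover u hu).resolve_left
        fun hc => h3 ⟨u, hu, hc⟩) (w81 z hz hz8))))
    · refine Or.inl (Finset.eq_empty_of_forall_notMem fun u hu => ?_)
      rcases cover u hu with hc | hc
      · exact h3 ⟨u, hu, hc⟩
      · exact h8 ⟨u, hu, hc⟩

/-- A set of 56 far points kept by the stabiliser of the first one. -/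
theorem far_union (U : Finset (Fin 275)) (hU : ∀ σ ∈ KG, σ o1 = o1 → ∀ y ∈ U, σ y ∈ U)
    (hsub : ∀ y ∈ U, OPt y ∧ y ≠ o1) (hcard : U.card = 56) : U = far56 := by
  have h := trees_ok
  simp only [treesB, Bool.and_eq_true, Nat.beq_eq, decide_eq_true_eq, Bool.not_eq_true'] at h
  obtain ⟨⟨⟨⟨⟨⟨⟨⟨⟨⟨⟨⟨⟨⟨⟨⟨⟨⟨⟨⟨⟨⟨-, -⟩, -⟩, -⟩, -⟩, -⟩, -⟩, -⟩, -⟩, -⟩, -⟩, -⟩, -⟩, -⟩, sel⟩, -⟩, -⟩, -⟩, -⟩, t105⟩, l105⟩, r105⟩, a105⟩ := h
  have no105 : ∀ y ∈ U, y ∉ far105 := by
    intro y hy hyC
    have key := orbit_eq_of_tree (KG ⊓ MulAction.stabilizer (Equiv.Perm (Fin 275)) o1) gensSet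
      ⟨root105, r105.2⟩ tree105 (sel_gen (x := o1) sel) t105 far105
      (fun σ hσ => (far56_inv hσ.1 hσ.2 _).2.2 (Finset.mem_filter.2 ⟨Finset.mem_univ _,
        by unfold OPt; simp only; omega, fun e => by have := congrArg Fin.val e; simp [o1] at this; omega,
        by intro (ha : adjB 113 root105 = true); rw [a105] at ha; simp at ha⟩)) (by rw [far105_card, l105])
    have : far105 ⊆ U := fun z hz => by
      obtain ⟨σ, hσ, e1⟩ := key y hyC
      obtain ⟨τ, hτ, e2⟩ := key z hz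
      have := hU (τ * σ⁻¹) (mul_mem hτ.1 (inv_mem hσ.1)) ((mul_mem hτ (inv_mem hσ) :
        τ * σ⁻¹ ∈ KG ⊓ MulAction.stabilizer (Equiv.Perm (Fin 275)) o1).2) y hy
      rwa [← e1, Equiv.Perm.mul_apply, Equiv.Perm.inv_def, Equiv.symm_apply_apply, e2] at this
    have := Finset.card_le_card this
    rw [far105_card] at this
    omega
  refine Finset.eq_of_subset_of_card_le (fun y hy => ?_) (by rw [far56_card, hcard])
  have h1 := no105 y hy
  simp only [far56, far105, Finset.mem_filter, Finset.mem_univ, true_and] at h1 ⊢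
  have := hsub y hy
  tauto

end CfsgLib.McLRec
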