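import Cfsg.Agent.Lib.McLRec.Model
import Cfsg.Agent.Lib.McLRec.Fixed

/-!
# A rank three group on 275 points: the orbital graph
-/

set_option autoImplicit false
set_option maxRecDepth 100000
set_option linter.unusedSectionVars false

open scoped Classical

namespace CfsgLib.McLRec

open CfsgLib.LeechPSU

variable {Ω : Type*} (G : Subgroup (Equiv.Perm Ω)) (a b c : Ω)

/-- The orbital of the pair. -/
def Rel (x y : Ω) : Prop := ∃ g : G, g • a = x ∧ g • b = y

/-- The hypotheses on the group. -/
structure RankThree [Fintype Ω] : Prop where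
  trans : ∀ x, ∃ g : G, g • a = x
  card_points : Fintype.card Ω = 275
  card_near : (MulAction.orbit (MulAction.stabilizer G a) b).ncard = 112
  card_far : (MulAction.orbit (MulAction.stabilizer G a) c).ncard = 162

variable [Fintype Ω] [DecidableEq Ω]

/-- The points related to a point. -/
noncomputable def nbrs (x : Ω) : Finset Ω := Finset.univ.filter (Rel G a b x)

/-- An orbit of the point stabiliser. -/
noncomputable def orbFin (x : Ω) : Finset Ω :=
  Finset.univ.filter fun y => y ∈ MulAction.orbit (MulAction.stabilizer G a) x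

variable {G a b c}

theorem mem_nbrs {x y : Ω} : y ∈ nbrs G a b x ↔ Rel G a b x y := by simp [nbrs]

theorem mem_orbFin {x y : Ω} : y ∈ orbFin G a x ↔ ∃ s : MulAction.stabilizer G a, s • x = y := by
  simp [orbFin, MulAction.mem_orbit_iff]

theorem orbFin_card (x : Ω) :
    (orbFin G a x).card = (MulAction.orbit (MulAction.stabilizer G a) x).ncard := by
  classical
  rw [← Set.ncard_coe_finset]
  congr 1
  ext y
  simp [orbFin]

theorem self_mem_orbFin (x : Ω) : x ∈ orbFin G a x := mem_orbFin.2 ⟨1, one_smul _ _⟩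

theorem smul_mem_orbFin (s : MulAction.stabilizer G a) {x y : Ω} (h : y ∈ orbFin G a x) :
    s • y ∈ orbFin G a x := by
  obtain ⟨t, rfl⟩ := mem_orbFin.1 h
  exact mem_orbFin.2 ⟨s * t, mul_smul _ _ _⟩

theorem smul_mem_iff (s : MulAction.stabilizer G a) {x y : Ω} : s • y ∈ orbFin G a x ↔ y ∈ orbFin G a x :=
  ⟨fun h => by simpa using smul_mem_orbFin s⁻¹ h, smul_mem_orbFin s⟩

theorem stab_smul_base (s : MulAction.stabilizer G a) : s • a = a := s.2

theorem rel_smul (g : G) (x y : Ω) : Rel G a b (g • x) (g • y) ↔ Rel G a b x y := by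
  constructor
  · rintro ⟨k, h1, h2⟩
    exact ⟨g⁻¹ * k, by rw [mul_smul, h1, inv_smul_smul], by rw [mul_smul, h2, inv_smul_smul]⟩
  · rintro ⟨k, h1, h2⟩
    exact ⟨g * k, by rw [mul_smul, h1], by rw [mul_smul, h2]⟩

theorem rel_smul_stab (s : MulAction.stabilizer G a) (x y : Ω) :
    Rel G a b (s • x) (s • y) ↔ Rel G a b x y := rel_smul (s : G) x y

theorem nbrs_base : nbrs G a b a = orbFin G a b := by
  ext y
  rw [mem_nbrs, mem_orbFin]
  constructor
  · rintro ⟨g, h1, h2⟩
    exact ⟨⟨g, h1⟩, h2⟩
  · rintro ⟨s, hs⟩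
    exact ⟨s, s.2, hs⟩

theorem rel_base_iff (y : Ω) : Rel G a b a y ↔ y ∈ orbFin G a b := by rw [← nbrs_base, mem_nbrs]

theorem nbrs_smul (g : G) (x : Ω) : nbrs G a b (g • x) = (nbrs G a b x).image (g • ·) := by
  ext y
  rw [mem_nbrs, Finset.mem_image]
  constructor
  · exact fun h => ⟨g⁻¹ • y, mem_nbrs.2 ((rel_smul g _ _).1 (by rwa [smul_inv_smul])), smul_inv_smul g y⟩
  · rintro ⟨z, hz, rfl⟩
    exact (rel_smul g _ _).2 (mem_nbrs.1 hz)

variable (h : RankThree G a b c)
include h

theorem base_notMem : a ∉ orbFin G a b ∧ a ∉ orbFin G a c := by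
  constructor <;>
  · intro hm
    obtain ⟨s, hs⟩ := mem_orbFin.1 hm
    have hx := eq_inv_smul_iff.2 hs
    rw [stab_smul_base] at hx
    have h2 := h.card_near
    have h3 := h.card_far
    rw [← orbFin_card] at h2 h3
    have hone : orbFin G a a = {a} := by
      ext y
      rw [mem_orbFin, Finset.mem_singleton]
      exact ⟨fun ⟨t, ht⟩ => by rw [← ht, stab_smul_base], fun e => ⟨1, by rw [one_smul, e]⟩⟩
    subst hx
    simp [hone] at h2 h3

theorem orbits_disjoint : Disjoint (orbFin G a b) (orbFin G a c) := by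
  rw [Finset.disjoint_left]
  intro y h1 h2
  obtain ⟨s, rfl⟩ := mem_orbFin.1 h1
  obtain ⟨t, ht⟩ := mem_orbFin.1 h2
  have hsub : orbFin G a b ⊆ orbFin G a c := fun z hz => by
    obtain ⟨u, rfl⟩ := mem_orbFin.1 hz
    refine mem_orbFin.2 ⟨u * s⁻¹ * t, ?_⟩
    rw [mul_smul, ht, mul_smul, inv_smul_smul]
  have hsub' : orbFin G a c ⊆ orbFin G a b := fun z hz => by
    obtain ⟨u, rfl⟩ := mem_orbFin.1 hz
    refine mem_orbFin.2 ⟨u * t⁻¹ * s, ?_⟩
    rw [mul_smul, ← ht, mul_smul, inv_smul_smul]
  have := h.card_near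
  have := h.card_far
  have := orbFin_card (G := G) (a := a) b
  have := orbFin_card (G := G) (a := a) c
  have := Finset.card_le_card hsub
  have := Finset.card_le_card hsub'
  omega

theorem univ_split : (Finset.univ : Finset Ω) = insert a (orbFin G a b ∪ orbFin G a c) := by
  refine (Finset.eq_of_subset_of_card_le (Finset.subset_univ _) ?_).symm
  rw [Finset.card_insert_of_notMem (by simp [(base_notMem h).1, (base_notMem h).2]),
    Finset.card_union_of_disjoint (orbits_disjoint h), orbFin_card, orbFin_card, h.card_near, h.card_far,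
    Finset.card_univ, h.card_points]

theorem cases_point (x : Ω) : x = a ∨ x ∈ orbFin G a b ∨ x ∈ orbFin G a c := by
  have := Finset.mem_univ x
  rw [univ_split h] at this
  simpa using this

theorem card_nbrs (x : Ω) : (nbrs G a b x).card = 112 := by
  obtain ⟨g, rfl⟩ := h.trans x
  rw [nbrs_smul, Finset.card_image_of_injective _ (MulAction.injective g), nbrs_base, orbFin_card, h.card_near]

theorem rel_comm (x y : Ω) : Rel G a b x y ↔ Rel G a b y x := by
  suffices key : ∀ x y, Rel G a b x y → Rel G a b y x from ⟨key x y, key y x⟩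
  let pin : Ω → Finset Ω := fun x => Finset.univ.filter fun z => Rel G a b z x
  have hconst : ∀ x, (pin x).card = (pin a).card := by
    intro x
    obtain ⟨g, rfl⟩ := h.trans x
    have : pin (g • a) = (pin a).image (g • ·) := by
      ext z
      simp only [pin, Finset.mem_filter, Finset.mem_univ, true_and, Finset.mem_image]
      constructor
      · exact fun hz => ⟨g⁻¹ • z, (rel_smul g _ _).1 (by rwa [smul_inv_smul]), smul_inv_smul g z⟩
      · rintro ⟨w, hw, rfl⟩; exact (rel_smul g _ _).2 hw
    rw [this, Finset.card_image_of_injective _ (MulAction.injective g)]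
  have hsum : ∑ x : Ω, (nbrs G a b x).card = ∑ x : Ω, (pin x).card :=
    Finset.sum_card_bipartiteAbove_eq_sum_card_bipartiteBelow (r := Rel G a b) (s := Finset.univ)
      (t := Finset.univ)
  rw [Finset.sum_congr rfl fun x _ => card_nbrs h x, Finset.sum_congr rfl fun x _ => hconst x,
    Finset.sum_const, Finset.sum_const, Finset.card_univ, h.card_points, smul_eq_mul, smul_eq_mul] at hsum
  have hsub : pin a ⊆ orbFin G a b := by
    intro z hz
    simp only [pin, Finset.mem_filter, Finset.mem_univ, true_and] at hz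
    rcases cases_point h z with rfl | h1 | h2
    · exact absurd ((rel_base_iff _).1 hz) (base_notMem h).1
    · exact h1
    · exfalso
      obtain ⟨t, rfl⟩ := mem_orbFin.1 h2
      have : orbFin G a c ⊆ pin a := fun w hw => by
        obtain ⟨u, rfl⟩ := mem_orbFin.1 hw
        simp only [pin, Finset.mem_filter, Finset.mem_univ, true_and]
        have := (rel_smul_stab (u * t⁻¹) _ _).2 hz
        rwa [← mul_smul, inv_mul_cancel_right, stab_smul_base] at this
      have := Finset.card_le_card this
      rw [orbFin_card, h.card_far] at this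
      omega
  have heq : pin a = orbFin G a b :=
    Finset.eq_of_subset_of_card_le hsub (by rw [orbFin_card, h.card_near]; omega)
  intro x y hxy
  obtain ⟨g, rfl⟩ := h.trans x
  have h1 : Rel G a b a (g⁻¹ • y) := (rel_smul g _ _).1 (by rwa [smul_inv_smul])
  have h2 : g⁻¹ • y ∈ pin a := heq ▸ (rel_base_iff _).1 h1
  simp only [pin, Finset.mem_filter, Finset.mem_univ, true_and] at h2
  have := (rel_smul g _ _).2 h2
  rwa [smul_inv_smul] at this

theorem rel_irrefl (x : Ω) : ¬ Rel G a b x x := by
  intro hx
  obtain ⟨g, rfl⟩ := h.trans x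
  exact (base_notMem h).1 ((rel_base_iff _).1 ((rel_smul g _ _).1 hx))

/-- The neighbours of a point, class by class. -/
theorem card_nbrs_split (x : Ω) :
    (nbrs G a b x ∩ {a}).card + (nbrs G a b x ∩ orbFin G a b).card + (nbrs G a b x ∩ orbFin G a c).card = 112 := by
  have hb := (base_notMem h).1
  have hc := (base_notMem h).2
  rw [← card_nbrs h x]
  conv_rhs => rw [← Finset.inter_univ (nbrs G a b x), univ_split h, Finset.insert_eq,
    Finset.inter_union_distrib_left, Finset.inter_union_distrib_left]
  rw [Finset.card_union_of_disjoint, Finset.card_union_of_disjoint, add_assoc]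
  · exact (orbits_disjoint h).mono Finset.inter_subset_right Finset.inter_subset_right
  · refine Finset.disjoint_left.2 fun z hz hz' => ?_
    simp only [Finset.mem_inter, Finset.mem_singleton, Finset.mem_union] at hz hz'
    rcases hz' with h1 | h1
    · exact hb (hz.2 ▸ h1.2)
    · exact hc (hz.2 ▸ h1.2)

omit h in
theorem common_smul (g : G) (x y : Ω) :
    (nbrs G a b (g • x) ∩ nbrs G a b (g • y)).card = (nbrs G a b x ∩ nbrs G a b y).card := by
  rw [nbrs_smul, nbrs_smul, ← Finset.image_inter _ _ (MulAction.injective g),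
    Finset.card_image_of_injective _ (MulAction.injective g)]

end CfsgLib.McLRec
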