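import Cfsg.Agent.Lib.McLRec.Graph
import Cfsg.Agent.Lib.McLRec.Orbits

/-!
# The four families of sets, a three-group, and an element moving the base point
-/

set_option autoImplicit false
set_option maxRecDepth 100000

namespace CfsgLib.McLRec

open CfsgLib.LeechPSU

local notation "KG" => permGroup 275 [code0, code1]
local notation "MG" => permGroup 275 [code0, code1, code2]

/-- The cliques consist of four near points, mutually joined. -/
noncomputable def cliquesB : Bool :=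
  cliques.all fun q =>
    decide (1 ≤ q.1 ∧ q.1 ≤ 112) && decide (1 ≤ q.2.1 ∧ q.2.1 ≤ 112) && decide (1 ≤ q.2.2.1 ∧ q.2.2.1 ≤ 112) &&
    decide (1 ≤ q.2.2.2 ∧ q.2.2.2 ≤ 112) &&
    adjB q.1 q.2.1 && adjB q.1 q.2.2.1 && adjB q.1 q.2.2.2 && adjB q.2.1 q.2.2.1 && adjB q.2.1 q.2.2.2 &&
    adjB q.2.2.1 q.2.2.2

theorem cliques_ok : cliquesB = true := by decide +kernel

theorem clique_points {q : ℕ × ℕ × ℕ × ℕ} (hq : q ∈ cliques) :
    ∃ a b c d : Fin 275, (a : ℕ) = q.1 ∧ (b : ℕ) = q.2.1 ∧ (c : ℕ) = q.2.2.1 ∧ (d : ℕ) = q.2.2.2 ∧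
      QPt a ∧ QPt b ∧ QPt c ∧ QPt d ∧ Adj a b ∧ Adj a c ∧ Adj a d ∧ Adj b c ∧ Adj b d ∧ Adj c d := by
  have h := cliques_ok
  simp only [cliquesB, List.all_eq_true, Bool.and_eq_true, decide_eq_true_eq] at h
  obtain ⟨⟨⟨⟨⟨⟨⟨⟨⟨ha, hb⟩, hc⟩, hd⟩, h1⟩, h2⟩, h3⟩, h4⟩, h5⟩, h6⟩ := h q hq
  exact ⟨⟨q.1, by omega⟩, ⟨q.2.1, by omega⟩, ⟨q.2.2.1, by omega⟩, ⟨q.2.2.2, by omega⟩, rfl, rfl, rfl, rfl,
    ha, hb, hc, hd, h1, h2, h3, h4, h5, h6⟩

/-- The codes of the maps between the families. -/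
noncomputable def sigOk (i : ℕ) : Bool :=
  let s := sigCodes.getD i 0
  ((List.range 275).all fun y => decide (fieldAt s y < 275)) && Nat.beq (imgMask s allMask) allMask &&
    ((List.range 275).all fun y => (decide (1 ≤ y ∧ y ≤ 112)) == (decide (1 ≤ fieldAt s y ∧ fieldAt s y ≤ 112))) &&
    ((List.range 112).all fun x => Nat.beq (imgMask s (fastGet rowsA 0 (x + 1) &&& (2 ^ 113 - 2)))
      (fastGet rowsA 0 (fieldAt s (x + 1)) &&& (2 ^ 113 - 2))) &&
    (List.range 162).all fun j =>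
      Nat.beq (imgMask s (fastGet rowsA 0 (113 + j) &&& (2 ^ 113 - 2))) (fastGet hemTab 0 (i * 162 + j))

theorem sig_ok : sigOk 0 = true ∧ sigOk 1 = true ∧ sigOk 2 = true ∧ sigOk 3 = true := by
  refine ⟨?_, ?_, ?_, ?_⟩ <;> decide +kernel

theorem hemTab_length : hemTab.length = 648 := by decide +kernel

theorem testBit_near (y : Fin 275) : (2 ^ 113 - 2 : ℕ).testBit y.val = true ↔ QPt y := by
  rw [← adj_zero_iff]
  have := shape_ok
  simp only [shapeB, Bool.and_eq_true, Nat.beq_eq] at this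
  unfold Adj adjB
  rw [show ((0 : Fin 275) : ℕ) = 0 from rfl, this.1]

theorem exists_sig {i : ℕ} (hi : i < 4) :
    ∃ s : Equiv.Perm (Fin 275), IsCode (sigCodes.getD i 0) s ∧ (∀ y, QPt (s y) ↔ QPt y) ∧
      (∀ x y, QPt x → QPt y → (Adj (s x) (s y) ↔ Adj x y)) ∧
      ∀ j < 162, ∀ y, QPt y → ((hemTab.getD (i * 162 + j) 0).testBit (s y).val = true ↔
        adjB (113 + j) y.val = true) := by
  have h : sigOk i = true := by
    obtain ⟨h0, h1, h2, h3⟩ := sig_ok
    rcases (by omega : i = 0 ∨ i = 1 ∨ i = 2 ∨ i = 3) with rfl | rfl | rfl | rfl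
    exacts [h0, h1, h2, h3]
  simp only [sigOk, Bool.and_eq_true, List.all_eq_true, List.mem_range, decide_eq_true_eq, Nat.beq_eq,
    beq_iff_eq] at h
  obtain ⟨⟨⟨⟨hlt, hall⟩, hq⟩, hrow⟩, hhem⟩ := h
  let f : Fin 275 → Fin 275 := fun x => ⟨fieldAt (sigCodes.getD i 0) x.val, hlt x.val x.isLt⟩
  have hf : Function.Surjective f := fun y => by
    have h1 : allMask.testBit y.val = true := by rw [allMask, Nat.testBit_two_pow_sub_one]; simp
    rw [← hall, testBit_imgMask] at h1
    obtain ⟨j, hj, -, e⟩ := h1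
    exact ⟨⟨j, hj⟩, Fin.ext e⟩
  have hbij := Finite.surjective_iff_bijective.1 hf
  have hQ : ∀ y, QPt (f y) ↔ QPt y := fun y => by
    have := hq y.val y.isLt
    rw [decide_eq_decide] at this
    exact this.symm
  have img : ∀ (m : ℕ) (y : Fin 275), (imgMask (sigCodes.getD i 0) m).testBit (f y).val = true ↔
      m.testBit y.val = true := by
    intro m y
    rw [testBit_imgMask]
    constructor
    · rintro ⟨j, hj, hm, e⟩
      have : (⟨j, hj⟩ : Fin 275) = y := hbij.1 (Fin.ext e)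
      rw [← this]; exact hm
    · exact fun hm => ⟨y.val, y.isLt, hm, rfl⟩
  refine ⟨Equiv.ofBijective f hbij, fun x => rfl, hQ, fun x y hx hy => ?_, fun j hj y hy => ?_⟩
  · show adjB (f x).val (f y).val = true ↔ adjB x.val y.val = true
    obtain ⟨hx1, hx2⟩ := hx
    have hr := hrow (x.val - 1) (by omega)
    rw [show x.val - 1 + 1 = x.val by omega] at hr
    have key := img (fastGet rowsA 0 x.val &&& (2 ^ 113 - 2)) y
    rw [hr, Nat.testBit_and, Nat.testBit_and, Bool.and_eq_true, Bool.and_eq_true, testBit_near, testBit_near]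
      at key
    unfold adjB
    constructor
    · exact fun h => (key.1 ⟨h, (hQ y).2 hy⟩).1
    · exact fun h => (key.2 ⟨h, hy⟩).1
  · have key := img (fastGet rowsA 0 (113 + j) &&& (2 ^ 113 - 2)) y
    rw [hhem j hj, Nat.testBit_and, Bool.and_eq_true, testBit_near,
      fastGet_eq _ _ (by rw [hemTab_length]; omega)] at key
    show (hemTab.getD (i * 162 + j) 0).testBit (f y).val = true ↔ _
    unfold adjB
    exact key.trans ⟨fun h => h.1, fun h => ⟨h, hy⟩⟩

/-- The stated conjugates. -/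
noncomputable def normB : Bool :=
  decide (normIdx.length = 3) && (List.range 3).all fun t =>
    decide ((normIdx.getD t (0, 0)).1 < knownK.length) && decide ((normIdx.getD t (0, 0)).2 < knownK.length) &&
    (List.range 112).all fun x =>
      Nat.beq (fieldAt (sigCodes.getD (t + 1) 0) (fieldAt (knownK.getD (normIdx.getD t (0, 0)).1 0) (x + 1)))
          (fieldAt code0 (fieldAt (sigCodes.getD (t + 1) 0) (x + 1))) &&
        Nat.beq (fieldAt (sigCodes.getD (t + 1) 0) (fieldAt (knownK.getD (normIdx.getD t (0, 0)).2 0) (x + 1)))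
          (fieldAt code1 (fieldAt (sigCodes.getD (t + 1) 0) (x + 1)))

theorem norm_ok : normB = true := by decide +kernel

theorem sig_zero_id (y : Fin 275) : fieldAt (sigCodes.getD 0 0) y.val = y.val := by
  have h : ((List.range 275).all fun y => Nat.beq (fieldAt (sigCodes.getD 0 0) y) y) = true := by decide +kernel
  simp only [List.all_eq_true, List.mem_range, Nat.beq_eq] at h
  exact h y.val y.isLt

theorem exists_norm {i : ℕ} (hi : i < 4) {s : Equiv.Perm (Fin 275)} (hs : IsCode (sigCodes.getD i 0) s)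
    (hQ : ∀ y, QPt (s y) ↔ QPt y) {k : Equiv.Perm (Fin 275)} (hk : k ∈ KG) :
    ∃ k' ∈ KG, ∀ y, QPt y → s (k' y) = k (s y) := by
  have keep : ∀ {z : Equiv.Perm (Fin 275)}, z ∈ KG → ∀ {y}, QPt y → QPt (z y) := fun hz y hy =>
    (aut_fix_zero (mgrp_le_autG (kgrp_le hz)) (kgrp_fix_zero hz) y).1.2 hy
  induction hk using Subgroup.closure_induction with
  | mem x hx =>
    obtain ⟨P, hP, hx⟩ := hx
    by_cases h0 : i = 0
    · subst h0
      refine ⟨x, Subgroup.subset_closure ⟨P, hP, hx⟩, fun y _ => Fin.ext ?_⟩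
      rw [hs, sig_zero_id]
      have : (s y).val = y.val := by rw [hs, sig_zero_id]
      rw [show s y = y from Fin.ext this]
    obtain ⟨t, rfl⟩ : ∃ t, i = t + 1 := ⟨i - 1, by omega⟩
    have h := norm_ok
    simp only [normB, Bool.and_eq_true, List.all_eq_true, List.mem_range, decide_eq_true_eq, Nat.beq_eq] at h
    obtain ⟨⟨h1, h2⟩, hmap⟩ := h.2 t (by omega)
    simp only [List.mem_cons, List.not_mem_nil, or_false] at hP
    rcases hP with rfl | rfl
    · obtain ⟨n, hn, hc⟩ := exists_elem _ h1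
      refine ⟨n, hn, fun y hy => Fin.ext ?_⟩
      obtain ⟨hy1, hy2⟩ := hy
      have := (hmap (y.val - 1) (by omega)).1
      rw [show y.val - 1 + 1 = y.val by omega] at this
      rw [hs, hc, hx, hs, this]
    · obtain ⟨n, hn, hc⟩ := exists_elem _ h2
      refine ⟨n, hn, fun y hy => Fin.ext ?_⟩
      obtain ⟨hy1, hy2⟩ := hy
      have := (hmap (y.val - 1) (by omega)).2
      rw [show y.val - 1 + 1 = y.val by omega] at this
      rw [hs, hc, hx, hs, this]
  | one => exact ⟨1, one_mem _, fun y _ => rfl⟩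
  | mul x y _ _ hx hy =>
    obtain ⟨a, ha, ea⟩ := hx
    obtain ⟨b, hb, eb⟩ := hy
    exact ⟨a * b, mul_mem ha hb, fun z hz => by
      rw [Equiv.Perm.mul_apply, ea _ (keep hb hz), eb z hz, Equiv.Perm.mul_apply]⟩
  | inv x _ hx =>
    obtain ⟨a, ha, ea⟩ := hx
    refine ⟨a⁻¹, inv_mem ha, fun z hz => ?_⟩
    have := ea (a⁻¹ z) (keep (inv_mem ha) hz)
    rw [Equiv.Perm.inv_def, Equiv.apply_symm_apply] at this
    simp only [Equiv.Perm.inv_def]
    rw [this, Equiv.symm_apply_apply]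

/-- The checks of the group of order 81. -/
noncomputable def threeB : Bool :=
  decide (gensP.length = 2) && selB gensP 1 && decide (elemsP.length = 81) && decide (closeP.length = 81) &&
  decide (stepsP.length = 80) &&
  ((List.range 275).all fun y => Nat.beq (fieldAt (elemsP.getD 0 0) y) y) &&
  decide ((elemsP.map fun e => (List.range 275).map fun y => fieldAt e y).Nodup) &&
  ((List.range 80).all fun t =>
    decide ((stepsP.getD t (0, 0)).1 ≤ t) && decide ((stepsP.getD t (0, 0)).2 < 2) &&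
      (List.range 275).all fun y => Nat.beq (fieldAt (elemsP.getD (t + 1) 0) y)
        (fieldAt (knownK.getD (gensP.getD (stepsP.getD t (0, 0)).2 0) 0)
          (fieldAt (elemsP.getD (stepsP.getD t (0, 0)).1 0) y))) &&
  ((List.range 81).all fun t =>
    decide ((closeP.getD t (0, 0)).1 < 81) && decide ((closeP.getD t (0, 0)).2 < 81) &&
      (List.range 275).all fun y =>
        Nat.beq (fieldAt (elemsP.getD (closeP.getD t (0, 0)).1 0) y)
          (fieldAt (knownK.getD (gensP.getD 0 0) 0) (fieldAt (elemsP.getD t 0) y)) &&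
        Nat.beq (fieldAt (elemsP.getD (closeP.getD t (0, 0)).2 0) y)
          (fieldAt (knownK.getD (gensP.getD 1 0) 0) (fieldAt (elemsP.getD t 0) y))) &&
  treeOk 275 (gensP.map fun i => knownK.getD i 0) treeP3 (2 ^ rootP3) && Nat.beq treeP3.length 2 &&
  treeOk 275 (gensP.map fun i => knownK.getD i 0) treeP27 (2 ^ rootP27) && Nat.beq treeP27.length 26 &&
  treeOk 275 (gensP.map fun i => knownK.getD i 0) treeP81 (2 ^ rootP81) && Nat.beq treeP81.length 80 &&
  decide (1 ≤ rootP3 ∧ rootP3 ≤ 112) && adjB 1 rootP3 &&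
  decide (1 ≤ rootP27 ∧ rootP27 ≤ 112) && decide (1 ≤ rootP81 ∧ rootP81 ≤ 112)

theorem three_ok : threeB = true := by decide +kernel

/-- The checks of the element moving the base point. -/
noncomputable def moverB : Bool :=
  decide (moverIdx < knownM.length) && decide (moverPre < 275) &&
  Nat.beq (fieldAt (knownM.getD moverIdx 0) 0) 1 && Nat.beq (fieldAt (knownM.getD moverIdx 0) moverPre) 0 &&
  decide (1 ≤ fieldAt (knownM.getD moverIdx 0) (fieldAt code0 moverPre) ∧
    fieldAt (knownM.getD moverIdx 0) (fieldAt code0 moverPre) ≤ 112) &&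
  decide (113 ≤ fieldAt (knownM.getD moverIdx 0) (fieldAt code1 moverPre))

theorem mover_ok : moverB = true := by decide +kernel

theorem exists_mover_elem : ∃ m ∈ MG, m 0 = q1 ∧ ∃ k₁ ∈ KG, ∃ k₂ ∈ KG,
    QPt (m (k₁ (m⁻¹ 0))) ∧ OPt (m (k₂ (m⁻¹ 0))) := by
  have h := mover_ok
  simp only [moverB, Bool.and_eq_true, decide_eq_true_eq, Nat.beq_eq] at h
  obtain ⟨⟨⟨⟨⟨hi, hp⟩, h0⟩, h1⟩, hw1⟩, hw2⟩ := h
  obtain ⟨m, hm, hc⟩ : ∃ m ∈ MG, IsCode (knownM.getD moverIdx 0) m := by
    rw [List.getD_eq_getElem _ _ hi]; exact knownM_mem _ (List.getElem_mem hi)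
  obtain ⟨k1, c1, -⟩ := exists_aut_perm autCodes_ok.1
  obtain ⟨k2, c2, -⟩ := exists_aut_perm autCodes_ok.2.1
  refine ⟨m, hm, Fin.ext ((hc 0).trans h0), k1, Subgroup.subset_closure ⟨code0, by simp, c1⟩,
    k2, Subgroup.subset_closure ⟨code1, by simp, c2⟩, ?_, ?_⟩
  all_goals
    have e : m⁻¹ 0 = ⟨moverPre, hp⟩ := by
      rw [Equiv.Perm.inv_def, Equiv.symm_apply_eq]
      exact Fin.ext ((hc ⟨moverPre, hp⟩).trans h1).symm
    rw [e]
  · unfold QPt; rw [hc, c1]; exact hw1
  · unfold OPt; rw [hc, c2]; exact hw2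

end CfsgLib.McLRec
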